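import Groth.Agent.H10Coh.Gaeta.Basic
import Groth.Agent.H22Alg.SectionCut
import Groth.Agent.H02CA.Tango.StalkSum

/-! # Banded maps between sums of twists, on stalks -/

set_option autoImplicit false
set_option backward.isDefEq.respectTransparency.types false
set_option linter.style.haveILetI false
set_option linter.unusedSectionVars false

universe u

open CategoryTheory CategoryTheory.Limits AlgebraicGeometry Opposite
open Groth.Agent.H06Mod (stalkLin)

noncomputable section

namespace Groth.Agent.H10Coh.GaetaGen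

open H22Alg H10Coh.Gaeta

section generic

variable {X : Scheme.{u}}

/-- The maximal ideal times the stalk. -/
abbrev mM (M : X.Modules) (x : X) : Submodule (X.presheaf.stalk x) (M.presheaf.stalk x) :=
  IsLocalRing.maximalIdeal (X.presheaf.stalk x) • ⊤

theorem stalkLin_mem_mM {M N : X.Modules} (f : M ⟶ N) (x : X) {z : M.presheaf.stalk x} (hz : z ∈ mM M x) :
    stalkLin f x z ∈ mM N x := by
  have h : Submodule.map (stalkLin f x) (mM M x) ≤ mM N x := by
    rw [Submodule.map_smul'']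
    exact Submodule.smul_mono le_rfl le_top
  exact h ⟨z, hz, rfl⟩

/-- `μ` behaves as multiplication by a function with invertibility locus `S`. -/
def Good {M N : X.Modules} (μ : M ⟶ N) (S : X → Prop) : Prop :=
  ∀ x, (S x → Function.Surjective (stalkLin μ x)) ∧ (¬ S x → ∀ z, stalkLin μ x z ∈ mM N x)

theorem Good.comp {M N Q : X.Modules} {μ : M ⟶ N} {ν : N ⟶ Q} {S : X → Prop} (hμ : Good μ S) (hν : Good ν S) :
    Good (μ ≫ ν) S := fun x => by
  constructor
  · intro hx w
    obtain ⟨v, rfl⟩ := (hν x).1 hx w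
    obtain ⟨u, rfl⟩ := (hμ x).1 hx v
    exact ⟨u, H29Omega.stalkLin_comp _ _ _ _⟩
  · intro hx z
    rw [H29Omega.stalkLin_comp]
    exact (hν x).2 hx _

theorem Good.comp_iso {M N Q : X.Modules} {μ : M ⟶ N} {S : X → Prop} (hμ : Good μ S) (e : N ≅ Q) :
    Good (μ ≫ e.hom) S := fun x => by
  constructor
  · intro hx w
    obtain ⟨u, hu⟩ := (hμ x).1 hx (stalkLin e.inv x w)
    refine ⟨u, ?_⟩
    rw [H29Omega.stalkLin_comp, hu, ← H29Omega.stalkLin_comp, e.inv_hom_id]
    exact H02CA.Tango.stalkLin_id' x w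
  · intro hx z
    rw [H29Omega.stalkLin_comp]
    exact stalkLin_mem_mM _ x ((hμ x).2 hx z)

theorem Good.iso_comp {M N Q : X.Modules} {μ : N ⟶ Q} {S : X → Prop} (hμ : Good μ S) (e : M ≅ N) :
    Good (e.hom ≫ μ) S := fun x => by
  constructor
  · intro hx w
    obtain ⟨u, hu⟩ := (hμ x).1 hx w
    refine ⟨stalkLin e.inv x u, ?_⟩
    rw [← H29Omega.stalkLin_comp, e.inv_hom_id_assoc, hu]
  · intro hx z
    rw [H29Omega.stalkLin_comp]
    exact (hμ x).2 hx _

/-- A banded map is surjective on the stalk at a point where one band is invertible and the earlier ones vanish. -/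
theorem surjective_banded {T : X.Modules} {a N' : ℕ} {R : Fin N' → X.Modules}
    (μ : (i : Fin N') → Fin 3 → (R i ⟶ T)) {Z : X.Modules} (ι' : (i : Fin N') → (R i ⟶ Z))
    (Ψ : Z ⟶ ∐ fun _ : Fin a => T)
    (hΨ : ∀ i, ι' i ≫ Ψ = ∑ t : Fin 3,
      if h : t.1 ≤ i.1 ∧ i.1 - t.1 < a then μ i t ≫ Sigma.ι (fun _ : Fin a => T) ⟨i.1 - t.1, h.2⟩ else 0)
    (x : X) (hfin : Module.Finite (X.presheaf.stalk x) ((∐ fun _ : Fin a => T).presheaf.stalk x)) (s : Fin 3) (hlen : a + s.1 ≤ N')
    (hs : ∀ i, Function.Surjective (stalkLin (μ i s) x))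
    (hlt : ∀ i (t : Fin 3), t < s → ∀ z, stalkLin (μ i t) x z ∈ mM T x) :
    Function.Surjective (stalkLin Ψ x) := by
  let Zf := ∐ fun _ : Fin a => T
  let N := LinearMap.range (stalkLin Ψ x) ⊔ mM Zf x
  have key : ∀ (j : ℕ) (hj : j < a) (z : T.presheaf.stalk x),
      stalkLin (Sigma.ι (fun _ : Fin a => T) ⟨j, hj⟩) x z ∈ N := by
    intro j
    induction j using Nat.strong_induction_on with
    | _ j ih =>
      intro hj z
      let i : Fin N' := ⟨j + s.1, by omega⟩
      obtain ⟨y, hy⟩ := hs i z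
      have h1 : stalkLin Ψ x (stalkLin (ι' i) x y) = ∑ t : Fin 3, stalkLin
          (if h : t.1 ≤ i.1 ∧ i.1 - t.1 < a then μ i t ≫ Sigma.ι (fun _ : Fin a => T) ⟨i.1 - t.1, h.2⟩ else 0) x y := by
        rw [← H29Omega.stalkLin_comp, hΨ, H02CA.Tango.stalkLin_sum, LinearMap.sum_apply]
      have hmem : (∑ t : Fin 3, stalkLin
          (if h : t.1 ≤ i.1 ∧ i.1 - t.1 < a then μ i t ≫ Sigma.ι (fun _ : Fin a => T) ⟨i.1 - t.1, h.2⟩ else 0) x y) ∈ N :=
        h1 ▸ Submodule.mem_sup_left (LinearMap.mem_range_self _ _)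
      rw [← Finset.add_sum_erase _ _ (Finset.mem_univ s)] at hmem
      have h := (N.add_mem_iff_left (Submodule.sum_mem _ fun t ht => ?_)).1 hmem
      · rw [dif_pos ⟨by simp [i], by simpa [i] using hj⟩, H29Omega.stalkLin_comp, hy] at h
        have he : (⟨i.1 - s.1, by simpa [i] using hj⟩ : Fin a) = ⟨j, hj⟩ := Fin.ext (by simp [i])
        rwa [he] at h
      · by_cases hc : t.1 ≤ i.1 ∧ i.1 - t.1 < a
        · rw [dif_pos hc, H29Omega.stalkLin_comp]
          rcases lt_or_gt_of_ne (Finset.mem_erase.1 ht).1 with hts | hts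
          · exact Submodule.mem_sup_right (stalkLin_mem_mM _ x (hlt i t hts y))
          · have hts' : s.1 < t.1 := hts
            exact ih (i.1 - t.1) (by simp only [i] at hc ⊢; omega) hc.2 _
        · rw [dif_neg hc, H02CA.Tango.stalkLin_zero]; exact N.zero_mem
  have htop : (⊤ : Submodule (X.presheaf.stalk x) (Zf.presheaf.stalk x)) ≤ N := fun w _ => by
    rw [H02CA.Tango.eq_sum_proj T x w]
    exact Submodule.sum_mem _ fun l _ => key l.1 l.2 _
  haveI := hfin
  exact LinearMap.range_eq_top.1 (top_le_iff.1 (Submodule.le_of_le_smul_of_le_jacobson_bot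
    Module.Finite.fg_top (IsLocalRing.maximalIdeal_le_jacobson ⊥) (le_of_le_of_eq htop rfl)))

end generic

section plane

variable {k : Type u} [Field k]

theorem good_mul {L : (P2 k).Modules} (hL : PicF.IsInvertible L) (v : Γ(L, ⊤)) (M : (P2 k).Modules) :
    Good (SectionCut.mul (H11Tilde.homOfGlobal L v) M) (fun x => x ∈ H11Ample.gen L v) := fun x => by
  constructor
  · intro hx
    haveI := SectionCut.isIso_stalk_mul (H11Tilde.homOfGlobal L v) M
      (show x ∈ CohB1.genLocus L (H11Tilde.homOfGlobal L v) by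
        rw [H11Ample.genLocus_eq_gen, H11Ample.val_homOfGlobal]; exact hx)
    exact (ConcreteCategory.bijective_of_isIso
      ((DerSch.stalkFunctor (P2 k) x).map (SectionCut.mul (H11Tilde.homOfGlobal L v) M))).2
  · intro hx z
    obtain ⟨V, el, hV, hel⟩ := H11Ample.exists_gen hL x
    obtain ⟨c, hc⟩ := (hel x hV).2 (H28Mero.sGerm L (H11Tilde.homOfGlobal L v) x)
    obtain ⟨b, hb⟩ := (SectionCut.stalk_mulHom_range (H11Tilde.homOfGlobal L v) M (hel x hV) hc.symm).1 z
    rw [hb]
    refine Submodule.smul_mem_smul ((IsLocalRing.mem_maximalIdeal c).2 fun hu => hx ?_) Submodule.mem_top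
    show x ∈ H11Ample.gen L v
    rw [H11Ample.mem_gen_iff hL]
    have hv : H28Mero.sGerm L (H11Tilde.homOfGlobal L v) x = L.presheaf.germ ⊤ x trivial v := by
      show L.presheaf.germ ⊤ x trivial _ = _
      rw [H11Ample.val_homOfGlobal]
    rw [← hv, ← hc]
    obtain ⟨w, rfl⟩ := hu
    have hb' := (hel x hV).comp (f := fun r : (P2 k).presheaf.stalk x => r * w)
      ⟨fun p q h => by simpa using congrArg (· * (↑w⁻¹ : (P2 k).presheaf.stalk x)) h,
        fun p => ⟨p * ↑w⁻¹, by simp [mul_assoc]⟩⟩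
    simpa [Function.comp_def, mul_smul] using hb'

variable (k) in
/-- Multiplication by the `t`-th coordinate. -/
def mu (a : ℤ) (t : Fin 3) : O k a ⟶ O k (a + 1) :=
  SectionCut.mul (H11Tilde.homOfGlobal (O k 1) (CMField.coords k 2 t)) (O k a) ≫
    ((CMField.setup k 2).fam.add a 1).some.hom

theorem good_mu (a : ℤ) (t : Fin 3) :
    Good (mu k a t) (fun x => x ∈ H11Ample.gen (O k 1) (CMField.coords k 2 t)) :=
  (good_mul ((CMField.setup k 2).fam.inv 1) _ (O k a)).comp_iso _

theorem exists_least (x : P2 k) : ∃ s : Fin 3, x ∈ H11Ample.gen (O k 1) (CMField.coords k 2 s) ∧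
    ∀ t : Fin 3, t < s → x ∉ H11Ample.gen (O k 1) (CMField.coords k 2 t) := by
  classical
  obtain ⟨j, hj, hx⟩ := (CMField.setup k 2).cover x
  let S : Finset (Fin 3) := Finset.univ.filter fun t : Fin 3 => x ∈ H11Ample.gen (O k 1) (CMField.coords k 2 t)
  have hS : S.Nonempty := ⟨⟨j, hj⟩, by simp [S, hx]⟩
  refine ⟨S.min' hS, (Finset.mem_filter.1 (S.min'_mem hS)).2, fun t ht h => ?_⟩
  exact absurd (S.min'_le t (by simp [S, h])) (not_le.2 ht)

end plane

end Groth.Agent.H10Coh.GaetaGen
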