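import Groth.Agent.H10Coh.GaetaGen.Interp
import Groth.Agent.H10Coh.Pn.Hyper
import Groth.Agent.H17.EdgeIso.Scheme
import Groth.Agent.H17.Reduced
import Groth.Agent.H27KZero.TensorRank
import Groth.Agent.H27HW.Finite
import Groth.Agent.H28RR.Clopen
import Groth.Agent.H29CurveDual.HomK
import Groth.Agent.S0047

/-! # Cohomology of a Gaeta cokernel twisted by the ideal of points -/

set_option autoImplicit false
set_option backward.isDefEq.respectTransparency.types false
set_option linter.style.haveILetI false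
set_option linter.unusedSectionVars false

universe u

open CategoryTheory CategoryTheory.Limits AlgebraicGeometry Opposite TopologicalSpace
open Groth.Agent.H06Mod (stalkLin)
attribute [local instance 10000] Groth.Agent.H10Coh.hasSheafifyAb Groth.Agent.H10Coh.hasWeakSheafifyAb Groth.Agent.H10Coh.hasExtAb Groth.Agent.H10Coh.enoughInjAb
attribute [local instance] Abelian.hasFiniteBiproducts

noncomputable section

namespace Groth.Agent.H10Coh.GaetaGen

open H22Alg H22Alg.CMField H10Coh.Gaeta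

variable (k : Type u) [Field k]

local notation "U" => Coh.structureModule (P2 k)

variable (Z : (P2 k).IdealSheafData)

/-- `- ⊗ I_Z`. -/
abbrev TI : (P2 k).Modules ⥤ (P2 k).Modules := (DCoh.tensorBi (X := P2 k)).flip.obj (ClSub.idealMod Z)

/-- `- ⊗ O_Z`. -/
abbrev TQ : (P2 k).Modules ⥤ (P2 k).Modules := (DCoh.tensorBi (X := P2 k)).flip.obj (ClSub.quotMod Z)

/-- The ideal sequence tensored with a module. -/
def zseq (M : (P2 k).Modules) : ShortComplex (P2 k).Modules :=
  (Hyper.idealSeq Z).map ((DCoh.tensorBi (X := P2 k)).obj M)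

theorem zseq_shortExact {M : (P2 k).Modules} (hM : FlatMod.IsFinLocFree M) : (zseq k Z M).ShortExact := by
  haveI := CMHyper.noetherian k 2
  exact H27KZero.shortExact_tensorLeft hM (Hyper.idealSeq_shortExact Z)

/-- Functoriality of the tensored ideal sequence. -/
def zhom {M N : (P2 k).Modules} (f : M ⟶ N) : zseq k Z M ⟶ zseq k Z N :=
  ShortComplex.homMk (((DCoh.tensorBi (X := P2 k)).map f).app _) (((DCoh.tensorBi (X := P2 k)).map f).app _)
    (((DCoh.tensorBi (X := P2 k)).map f).app _)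
    (((DCoh.tensorBi (X := P2 k)).map f).naturality _).symm (((DCoh.tensorBi (X := P2 k)).map f).naturality _).symm

/-- The middle term. -/
def zmid (M : (P2 k).Modules) : (zseq k Z M).X₂ ≅ M := (H28Vert.tensorRightUnitIso (X := P2 k)).app M

theorem zhom_τ₂ {M N : (P2 k).Modules} (f : M ⟶ N) :
    (zhom k Z f).τ₂ ≫ (zmid k Z N).hom = (zmid k Z M).hom ≫ f :=
  (H28Vert.tensorRightUnitIso (X := P2 k)).hom.naturality f

theorem mono_TI {M N : (P2 k).Modules} (hM : FlatMod.IsFinLocFree M) (f : M ⟶ N) [Mono f] :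
    Mono ((TI k Z).map f) := by
  haveI := (zseq_shortExact k Z hM).mono_f
  have e : (zhom k Z f).τ₁ ≫ (zseq k Z N).f ≫ (zmid k Z N).hom = (zseq k Z M).f ≫ (zmid k Z M).hom ≫ f := by
    rw [← Category.assoc, (zhom k Z f).comm₁₂, Category.assoc, zhom_τ₂]
  haveI : Mono ((zhom k Z f).τ₁ ≫ (zseq k Z N).f ≫ (zmid k Z N).hom) :=
    (congrArg (fun g => Mono g) e).mpr inferInstance
  exact mono_of_mono (zhom k Z f).τ₁ ((zseq k Z N).f ≫ (zmid k Z N).hom)

theorem subsingleton_zmid {M : (P2 k).Modules} {q : ℕ} (h : Subsingleton (Coh.HH (P2 k) M q)) :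
    Subsingleton (Coh.HH (P2 k) (zseq k Z M).X₂ q) :=
  @Equiv.subsingleton _ _ (HHSeq.isoₗ (A := k) (zmid k Z M) q).toEquiv h

section points

variable {S : Set (P2 k)} (hS : Set.range Z.subschemeι = S)

include hS in
theorem subsingleton_quot_stalk {y : P2 k} (hy : y ∉ S) :
    Subsingleton ((ClSub.quotMod Z).presheaf.stalk y) := by
  let V : (P2 k).Opens := ⟨(Set.range Z.subschemeι)ᶜ, Z.subschemeι.isClosedEmbedding.isClosed_range.isOpen_compl⟩
  have hyV : y ∈ V := by show y ∈ (Set.range Z.subschemeι)ᶜ; rw [hS]; exact hy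
  refine subsingleton_of_forall_eq 0 fun v => ?_
  obtain ⟨W, hW, t, rfl⟩ := TopCat.Presheaf.exists_germ_eq _ v
  haveI : Subsingleton Γ(ClSub.quotMod Z, W ⊓ V) := by
    show Subsingleton Γ(Coh.structureModule Z.subscheme, Z.subschemeι ⁻¹ᵁ (W ⊓ V))
    rw [show Z.subschemeι ⁻¹ᵁ (W ⊓ V) = ⊥ by
      ext z
      exact ⟨fun hz => (hz.2 ⟨z, rfl⟩).elim, fun hz => hz.elim⟩]
    exact inferInstanceAs (Subsingleton Γ(Z.subscheme, ⊥))
  rw [← TopCat.Presheaf.germ_res_apply _ (homOfLE (inf_le_left : W ⊓ V ≤ W)) y ⟨hW, hyV⟩ t,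
    Subsingleton.elim ((ClSub.quotMod Z).presheaf.map _ t) 0, map_zero]

include hS in
theorem subsingleton_TQ_stalk (M : (P2 k).Modules) {y : P2 k} (hy : y ∉ S) :
    Subsingleton (((TQ k Z).obj M).presheaf.stalk y) := by
  haveI := subsingleton_quot_stalk k Z hS hy
  exact (H16Derived.KFlat.Stalk.stalkEquiv M (ClSub.quotMod Z) y).symm.toEquiv.subsingleton

include hS in
theorem mem_mM_of_quot_zero {y : P2 k} (hy : y ∈ S) (z : (Coh.structureModule (P2 k)).presheaf.stalk y)
    (hz : stalkLin (ClSub.toSubscheme Z) y z = 0) : z ∈ mM U y := by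
  obtain ⟨r, rfl⟩ := (H11Ample.isGen_one (X := P2 k) ⊤ y trivial).2 z
  refine Submodule.smul_mem_smul ((IsLocalRing.mem_maximalIdeal r).2 fun hu => ?_) Submodule.mem_top
  have h1 : stalkLin (ClSub.toSubscheme Z) y (one1 k y) = 0 := by
    rw [map_smul] at hz
    exact (IsUnit.smul_eq_zero hu).1 hz
  rw [← hS] at hy
  obtain ⟨w, rfl⟩ := hy
  obtain ⟨W, hwW, hW⟩ := TopCat.Presheaf.germ_eq (ClSub.quotMod Z).presheaf (Z.subschemeι w) (show Z.subschemeι w ∈ (⊤ : (P2 k).Opens) from trivial)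
    (show Z.subschemeι w ∈ (⊤ : (P2 k).Opens) from trivial)
    ((ClSub.toSubscheme Z).app ⊤ (H11Ample.one ⊤)) 0
    (by rw [map_zero, ← H06Mod.stalkLin_germ]; exact h1)
  obtain ⟨i₁, i₂, he⟩ := hW
  rw [map_zero] at he
  haveI : Nonempty (Z.subschemeι ⁻¹ᵁ W : Set Z.subscheme) := ⟨⟨w, hwW⟩⟩
  have he' : (Z.subscheme.presheaf.map (homOfLE (le_top : Z.subschemeι ⁻¹ᵁ W ≤ ⊤)).op).hom
      (Z.subschemeι.app ⊤ (1 : Γ(P2 k, ⊤))) = 0 := he
  erw [map_one, map_one] at he'
  exact (one_ne_zero (α := Z.subscheme.presheaf.stalk w)) (by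
    rw [← map_one (Z.subscheme.presheaf.germ (Z.subschemeι ⁻¹ᵁ W) w hwW).hom, he', map_zero])

include hS in
/-- On the stalk at a point of `Z`, what dies in the restriction lies in `m`. -/
theorem mem_mM_of_g_zero (M : (P2 k).Modules) {y : P2 k} (hy : y ∈ S) (b : (zseq k Z M).X₂.presheaf.stalk y)
    (hb : stalkLin (zseq k Z M).g y b = 0) : stalkLin (zmid k Z M).hom y b ∈ mM M y := by
  let St := DerSch.stalkFunctor (P2 k) y
  haveI : Epi (ClSub.toSubscheme Z) := H10Coh.epi_toSubscheme Z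
  have hex : ((Hyper.idealSeq Z).map ((DCoh.tensorBi (X := P2 k)).obj M)).Exact :=
    haveI := (Hyper.idealSeq_shortExact Z).epi_g
    (Hyper.idealSeq_shortExact Z).exact.map_of_epi_of_preservesCokernel _ inferInstance inferInstance
  obtain ⟨a, ha⟩ := (ShortComplex.moduleCat_exact_iff _).1 (hex.map St) b hb
  replace ha : stalkLin (((DCoh.tensorBi (X := P2 k)).obj M).map (ClSub.idealModι Z)) y a = b := ha
  subst ha
  have hI : ∀ t, stalkLin (ClSub.idealModι Z) y t ∈ mM U y := fun t => mem_mM_of_quot_zero k Z hS hy _ (by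
    rw [← H29Omega.stalkLin_comp, show ClSub.idealModι Z ≫ ClSub.toSubscheme Z = 0 from kernel.condition _,
      H02CA.Tango.stalkLin_zero]; rfl)
  let e := H16Derived.KFlat.Stalk.leftIso M y
  have hT : ∀ t : TensorProduct ((P2 k).presheaf.stalk y) (St.obj M) (St.obj (ClSub.idealMod Z)),
      (St.map (ClSub.idealModι Z)).hom.lTensor (St.obj M) t ∈
        IsLocalRing.maximalIdeal ((P2 k).presheaf.stalk y) •
          (⊤ : Submodule ((P2 k).presheaf.stalk y)
            (TensorProduct ((P2 k).presheaf.stalk y) (St.obj M) (St.obj U))) := fun t => by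
    induction t using TensorProduct.induction_on with
    | zero => rw [map_zero]; exact zero_mem _
    | add p q hp hq => rw [map_add]; exact add_mem hp hq
    | tmul p q =>
      rw [LinearMap.lTensor_tmul]
      have hq : (St.map (ClSub.idealModι Z)).hom q ∈ IsLocalRing.maximalIdeal ((P2 k).presheaf.stalk y) •
          (⊤ : Submodule ((P2 k).presheaf.stalk y) (St.obj U)) := hI q
      have h2 := Submodule.mem_map_of_mem (f := TensorProduct.mk ((P2 k).presheaf.stalk y) (St.obj M) (St.obj U) p) hq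
      rw [Submodule.map_smul''] at h2
      exact Submodule.smul_mono le_rfl le_top h2
  have hn : e.hom.app U (stalkLin (((DCoh.tensorBi (X := P2 k)).obj M).map (ClSub.idealModι Z)) y a) =
      (St.map (ClSub.idealModι Z)).hom.lTensor (St.obj M) (e.hom.app (ClSub.idealMod Z) a) :=
    congr($(e.hom.naturality (ClSub.idealModι Z)) a)
  have hmem := hT (e.hom.app (ClSub.idealMod Z) a)
  rw [← hn] at hmem
  refine stalkLin_mem_mM (zmid k Z M).hom y ?_
  let inv' : TensorProduct ((P2 k).presheaf.stalk y) (St.obj M) (St.obj U) →ₗ[(P2 k).presheaf.stalk y]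
      (zseq k Z M).X₂.presheaf.stalk y := (e.inv.app U).hom
  have h3 := Submodule.mem_map_of_mem (f := inv') hmem
  rw [Submodule.map_smul''] at h3
  have h4 : inv' (e.hom.app U (stalkLin (((DCoh.tensorBi (X := P2 k)).obj M).map (ClSub.idealModι Z)) y a)) ∈
      mM (zseq k Z M).X₂ y := Submodule.smul_mono le_rfl le_top h3
  exact (congrArg (· ∈ mM (zseq k Z M).X₂ y) (congr($(e.hom_inv_id_app U) (stalkLin (((DCoh.tensorBi (X := P2 k)).obj M).map (ClSub.idealModι Z)) y a)))).mp h4

include hS in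
theorem isIso_TQ {M N : (P2 k).Modules} (f : M ⟶ N) (h : ∀ y ∈ S, Function.Bijective (stalkLin f y)) :
    IsIso ((TQ k Z).map f) := H29Omega.isIso_of_bijective_stalkLin _ fun y => by
  by_cases hy : y ∈ S
  · haveI : IsIso ((DerSch.stalkFunctor (P2 k) y).map f) :=
      (ConcreteCategory.isIso_iff_bijective _).2 (h y hy)
    haveI : IsIso ((TQ k Z ⋙ DerSch.stalkFunctor (P2 k) y).map f) := by
      rw [NatIso.isIso_map_iff (H16Derived.KFlat.Stalk.rightIso (ClSub.quotMod Z) y) f]
      exact inferInstanceAs (IsIso ((MonoidalCategory.tensorRight _).map _))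
    exact ConcreteCategory.bijective_of_isIso ((TQ k Z ⋙ DerSch.stalkFunctor (P2 k) y).map f)
  · haveI := subsingleton_TQ_stalk k Z hS M hy
    haveI := subsingleton_TQ_stalk k Z hS N hy
    exact ⟨fun p q _ => Subsingleton.elim p q, fun q => ⟨0, Subsingleton.elim _ _⟩⟩

include hS in
theorem mono_TQ {M N : (P2 k).Modules} (f : M ⟶ N) (h : ∀ y ∈ S, SplitAt f y) :
    Mono ((TQ k Z).map f) := H29Omega.mono_of_injective_stalkLin _ fun y => by
  by_cases hy : y ∈ S
  · obtain ⟨r, hr⟩ := h y hy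
    let St := DerSch.stalkFunctor (P2 k) y
    let F := MonoidalCategory.tensorRight (St.obj (ClSub.quotMod Z))
    have hr' : St.map f ≫ ModuleCat.ofHom r = 𝟙 (St.obj M) := ModuleCat.hom_ext hr
    let E := H16Derived.KFlat.Stalk.rightIso (ClSub.quotMod Z) y
    have hE : (TQ k Z ⋙ St).map f = E.hom.app M ≫ F.map (St.map f) ≫ E.inv.app N := by
      rw [← Category.assoc]
      exact (Iso.eq_comp_inv (E.app N)).2 (E.hom.naturality f)
    have hinv : (TQ k Z ⋙ St).map f ≫ E.hom.app N ≫ F.map (ModuleCat.ofHom r) ≫ E.inv.app M = 𝟙 _ := by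
      rw [hE, Category.assoc, Category.assoc, E.inv_hom_id_app_assoc, ← Functor.map_comp_assoc, hr']
      erw [CategoryTheory.Functor.map_id, Category.id_comp, E.hom_inv_id_app]
    intro p q hpq
    have hp := congr($hinv p)
    have hq := congr($hinv q)
    replace hpq : (TQ k Z ⋙ St).map f p = (TQ k Z ⋙ St).map f q := hpq
    simp only [ModuleCat.hom_comp, LinearMap.comp_apply, ModuleCat.id_apply] at hp hq
    rw [← hp, ← hq, hpq]
  · haveI := subsingleton_TQ_stalk k Z hS M hy
    exact fun p q _ => Subsingleton.elim p q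

include hS in
theorem subsingleton_HH_TQ (hSc : ∀ y ∈ S, IsClosed ({y} : Set (P2 k))) {M : (P2 k).Modules}
    (hM : Coh.IsCoh ((TQ k Z).obj M)) (q : ℕ) : Subsingleton (Coh.HH (P2 k) ((TQ k Z).obj M) (q + 1)) := by
  haveI := noeth k
  refine S0047.result (P2 k) _ hM (fun x hx => hSc x ?_) (q + 1) q.succ_pos
  by_contra hy
  haveI := subsingleton_TQ_stalk k Z hS M hy
  exact (H25Euler.notMem_support_iff _ _).2
    (@ModuleCat.isZero_of_subsingleton _ _ ((DerSch.stalkFunctor (P2 k) x).obj ((TQ k Z).obj M)) this) hx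

include hS in
theorem finrank_quot [IsAlgClosed k] (hfin : S.Finite) (hred : IsReduced Z.subscheme) :
    Module.finrank k (Coh.HH (P2 k) (ClSub.quotMod Z) 0) = Nat.card S := by
  haveI := hred
  haveI : IsProper (P2 k ↘ Spec (CommRingCat.of k)) := MumfordBound.proper_toSpec (k := k) (n := 2)
  letI : Z.subscheme.Over (Spec (CommRingCat.of k)) := ⟨Z.subschemeι ≫ (P2 k ↘ Spec (CommRingCat.of k))⟩
  haveI : IsProper (Z.subscheme ↘ Spec (CommRingCat.of k)) :=
    inferInstanceAs (IsProper (Z.subschemeι ≫ (P2 k ↘ Spec (CommRingCat.of k))))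
  let e : Z.subscheme ≃ S := (Equiv.ofInjective _ Z.subschemeι.isClosedEmbedding.injective).trans (Equiv.setCongr hS)
  haveI := hfin.to_subtype
  haveI : Finite Z.subscheme := Finite.of_equiv _ e.symm
  haveI : (Coh.structureModule Z.subscheme).IsQuasicoherent := (H10Coh.isCoh_structureModule' Z.subscheme).1
  exact (H28Int.Push.finrank_HH_push k Z.subschemeι rfl (Coh.structureModule Z.subscheme) 0).trans
    ((H27HW.finrank_h0_eq_natCard k Z.subscheme).trans (Nat.card_congr e))

end points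

theorem TI_map_smulMod (c : k) (N : (P2 k).Modules) :
    (TI k Z).map (Formal.smulMod k N c) = Formal.smulMod k ((TI k Z).obj N) c := by
  let e : (DCoh.tensorBi (X := P2 k)).obj (ClSub.idealMod Z) ≅ TI k Z :=
    H15Site.ModTensor.tLIso (O := (P2 k).sheaf) (ClSub.idealMod Z)
  rw [← cancel_epi (e.hom.app N), ← e.hom.naturality, H17.PnExt.tensor_map_smulMod]
  exact (KLin.comp_smulModΓ (e.hom.app N) _).symm

/-- The map on `H¹(- ⊗ I_Z)`, linear in the morphism. -/
def L1 (M N : (P2 k).Modules) :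
    (M ⟶ N) →ₗ[k] (Coh.HH (P2 k) ((TI k Z).obj M) 1 →ₗ[k] Coh.HH (P2 k) ((TI k Z).obj N) 1) where
  toFun f := Canon.HHlin k ((TI k Z).map f) 1
  map_add' f g := LinearMap.ext fun x => by
    rw [show (TI k Z).map (f + g) = (TI k Z).map f + (TI k Z).map g from
      haveI : (TI k Z).Additive := Functor.additive_of_preserves_binary_products _
      Functor.map_add _]
    exact H29RR.hhlin_add _ _ _ _
  map_smul' c f := LinearMap.ext fun x => by
    show Canon.HHlin k ((TI k Z).map (Formal.smulMod k M c ≫ f)) 1 x = c • Canon.HHlin k ((TI k Z).map f) 1 x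
    rw [Functor.map_comp, TI_map_smulMod, H29RR.hhlin_comp,
      ← map_smul]
    rfl

/-- The criterion. -/
theorem vanishing {M N : (P2 k).Modules} (hM : FlatMod.IsFinLocFree M) (f : M ⟶ N) [Mono f]
    (h₀ : Subsingleton (Coh.HH (P2 k) ((TI k Z).obj N) 0))
    (h₂M : ∀ q, Subsingleton (Coh.HH (P2 k) ((TI k Z).obj M) (q + 2)))
    (h₂N : ∀ q, Subsingleton (Coh.HH (P2 k) ((TI k Z).obj N) (q + 2)))
    (hbij : Function.Bijective (L1 k Z M N f)) (i : ℕ) :
    Subsingleton (Coh.HH (P2 k) (CohB1.tensorMod (cokernel f) (ClSub.idealMod Z)) i) := by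
  let S := (ShortComplex.mk f (cokernel.π f) (cokernel.condition f)).map (TI k Z)
  haveI : Epi S.g := inferInstanceAs (Epi ((TI k Z).map (cokernel.π f)))
  haveI : Mono S.f := mono_TI k Z hM f
  have hS : S.ShortExact :=
    { exact := (ShortComplex.exact_cokernel f).map_of_epi_of_preservesCokernel _ inferInstance inferInstance }
  match i with
  | 0 =>
    refine subsingleton_of_forall_eq 0 fun x => ?_
    obtain ⟨y, rfl⟩ := NakaiGen.hhlin_g_surjective k hS 0 hbij.1 x
    exact (congrArg _ (@Subsingleton.elim _ h₀ y 0)).trans (map_zero _)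
  | 1 =>
    refine subsingleton_of_forall_eq 0 fun x => ?_
    obtain ⟨y, rfl⟩ := NakaiGen.hhlin_g_surjective k hS 1
      (fun a b _ => @Subsingleton.elim _ (h₂M 0) a b) x
    obtain ⟨w, rfl⟩ := hbij.2 y
    show Canon.HHlin k S.g 1 (Canon.HHlin k S.f 1 w) = 0
    rw [← H29RR.hhlin_comp, S.zero]
    exact H29RR.hhlin_zero _ _ _ _
  | q + 2 => exact HHSeq.subsingleton₃ hS (h₂N q) (h₂M (q + 1))

end Groth.Agent.H10Coh.GaetaGen
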