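import Groth.Agent.H10Coh.GaetaGen.Witness
import Groth.Agent.H25Euler.RankCoeff
import Groth.Agent.H23KS.CurveLattice
import Groth.Agent.H29Ref.Free

/-! # General Gaeta maps: coordinates and locally free cokernels -/

set_option autoImplicit false
set_option backward.isDefEq.respectTransparency.types false
set_option linter.style.haveILetI false
set_option linter.unusedSectionVars false

universe u

open CategoryTheory CategoryTheory.Limits AlgebraicGeometry Opposite
open Groth.Agent.H06Mod (stalkLin)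
attribute [local instance] Abelian.hasFiniteBiproducts

noncomputable section

namespace Groth.Agent.H10Coh.GaetaGen

open H22Alg H22Alg.CMField H10Coh.Gaeta

variable (k : Type u) [Field k]

local notation "U" => Coh.structureModule (P2 k)

theorem integral : IsIntegral (P2 k) := LeadPic.PnRel.isIntegral_projSpace 2 k

theorem coh_src (a : ℕ) : Coh.IsCoh (src k a) := by
  haveI := noeth k
  exact H16Derived.KFlat.Stalk.isCoh_of_isFinLocFree (vb_sum k a (-2))

theorem coh_mid (b c : ℕ) : Coh.IsCoh (mid (k := k) b c) := by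
  haveI := noeth k
  exact H16Derived.KFlat.Stalk.isCoh_of_isFinLocFree (vb_mid k b c)

theorem coh_dual_src (a : ℕ) : Coh.IsCoh (RefHull.dual (src k a)) := by
  haveI := noeth k
  exact H16Derived.KFlat.Stalk.isCoh_of_isFinLocFree (H10Inj.SheafExt.isFinLocFree_dual (vb_sum k a (-2)))

theorem coh_dual_mid (b c : ℕ) : Coh.IsCoh (RefHull.dual (mid (k := k) b c)) := by
  haveI := noeth k
  exact H16Derived.KFlat.Stalk.isCoh_of_isFinLocFree (H10Inj.SheafExt.isFinLocFree_dual (vb_mid k b c))

theorem exists_coord (a b c : ℕ) :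
    ∃ m : ℕ, Nonempty ((src k a ⟶ mid (k := k) b c) ≃ₗ[k] (Fin m → k)) := by
  haveI : IsProper (P2 k ↘ Spec (CommRingCat.of k)) := MumfordBound.proper_toSpec (k := k) (n := 2)
  haveI : Module.Finite k (src k a ⟶ mid (k := k) b c) := H29RR.finite_hom (coh_src k a) (coh_mid k b c)
  exact ⟨_, ⟨(Module.finBasis k (src k a ⟶ mid (k := k) b c)).equivFun⟩⟩

theorem genRank_sum [IsIntegral (P2 k)] (L : (P2 k).Modules) (hL : PicF.IsInvertible L) (N : ℕ) :
    H25Euler.genRank (∐ fun _ : Fin N => L) = N := by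
  obtain ⟨V, e, hV, he⟩ := H11Ample.exists_gen hL (genericPoint (P2 k))
  exact H02CA.Tango.finrank_sigma_stalk L _ _ (he _ hV)

theorem genRank_mid [IsIntegral (P2 k)] (b c : ℕ) : H25Euler.genRank (mid (k := k) b c) = b + c := by
  haveI := noeth k
  have h := H25Euler.genRank_add
    (ShortComplex.Splitting.ofHasBinaryBiproduct (∐ fun _ : Fin b => O k (-1)) (∐ fun _ : Fin c => U)).shortExact
    (coh_mid k b c)
  exact h.trans (congr (congrArg HAdd.hAdd (genRank_sum k _ ((CMField.setup k 2).fam.inv (-1)) b))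
    (genRank_sum k _ H11Proj.isInvertible_structureModule c))

/-- The rank of the cokernel of an injective Gaeta map. -/
theorem genRank_cokernel [IsIntegral (P2 k)] {a b c : ℕ} (φ : src k a ⟶ mid (k := k) b c) [Mono φ] :
    H25Euler.genRank (cokernel φ) = b + c - a := by
  haveI := noeth k
  have hS : (ShortComplex.mk φ (cokernel.π φ) (cokernel.condition φ)).ShortExact :=
    { exact := ShortComplex.exact_cokernel φ }
  have h := H25Euler.genRank_add hS (coh_mid k b c)
  have h' : b + c = a + H25Euler.genRank (cokernel φ) := (genRank_mid k b c).symm.trans (h.trans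
    (congrArg (· + _) (genRank_sum k _ ((CMField.setup k 2).fam.inv (-2)) a)))
  omega

theorem coh_cokernel {a b c : ℕ} (φ : src k a ⟶ mid (k := k) b c) : Coh.IsCoh (cokernel φ) :=
  H10Coh.isCoh_cokernel φ (coh_src k a).1 (coh_mid k b c)

/-- For `α₁ + 2 ≤ α₂ + α₃` the general map is an injection with locally free cokernel. -/
theorem locFree (a b c : ℕ) (hr : a + 2 ≤ b + c) :
    ∃ (m : ℕ) (e : (src k a ⟶ mid (k := k) b c) ≃ₗ[k] (Fin m → k)) (p : MvPolynomial (Fin m) k), p ≠ 0 ∧
      ∀ φ : src k a ⟶ mid (k := k) b c, MvPolynomial.eval (e φ) p ≠ 0 →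
        Mono φ ∧ FlatMod.IsFinLocFreeOfRank (b + c - a) (cokernel φ) := by
  haveI := CMHyper.noetherian k 2
  haveI := integral k
  obtain ⟨m, ⟨e⟩⟩ := exists_coord k a b c
  obtain ⟨φ₀, hφ₀⟩ := exists_witness k a b c
  have h₀ : Epi (D k _ _ φ₀) := H29Omega.epi_of_surjective_stalkLin _ fun x => by
    obtain ⟨s, hs, hlt⟩ := exists_least x
    exact hφ₀ x s (by omega) hs hlt
  obtain ⟨p, hp, hp'⟩ := exists_poly_epi e (coh_dual_mid k b c) (coh_dual_src k a) (D k _ _) φ₀ h₀
  refine ⟨m, e, p, hp, fun φ hφ => ?_⟩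
  haveI : Epi (RefFun.dualMap φ) := hp' φ hφ
  have hsplit : ∀ x, SplitAt φ x := fun x =>
    splitAt_of_surjective_dual (vb_sum k a (-2)) (H3Cyc.Filt.isFP _ (vb_mid k b c))
      (H06Mod.surjective_stalk_of_epi (RefFun.dualMap φ) x)
  haveI : Mono φ := mono_of_injective_at (vb_sum k a (-2)) (coh_mid k b c).1 φ (hsplit (genericPoint _)).injective
  have hC := H29Ref.isFinLocFree_of_free_stalk _ (coh_cokernel k φ)
    fun x => free_stalk_cokernel (vb_mid k b c) (hsplit x)
  exact ⟨inferInstance, H23KS.CurveLattice.isFinLocFreeOfRank_of_generic _ hC (genRank_cokernel k φ)⟩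

end Groth.Agent.H10Coh.GaetaGen
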