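import Groth.Agent.H10Coh.GaetaGen.General
import Groth.Agent.H10Coh.FinType
import Groth.Prelude.Def_Curv2

/-! # General Gaeta maps with globally generated cokernels -/

set_option autoImplicit false
set_option backward.isDefEq.respectTransparency.types false
set_option linter.style.haveILetI false
set_option linter.unusedSectionVars false

universe u

open CategoryTheory CategoryTheory.Limits AlgebraicGeometry Opposite
open Groth.Agent.H06Mod (stalkLin)
attribute [local instance] Abelian.hasFiniteBiproducts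

noncomputable section

namespace Groth.Agent.H10Coh.GaetaGen

open H22Alg H22Alg.CMField H10Coh.Gaeta

variable (k : Type u) [Field k]

local notation "U" => Coh.structureModule (P2 k)

/-- If the dual is surjective at a point modulo equations vanishing there, general maps are injective. -/
theorem exists_poly_fam {a b c m : ℕ} (e : (src k a ⟶ mid (k := k) b c) ≃ₗ[k] (Fin m → k))
    {W : (P2 k).Modules} (hW : Coh.IsQCoh W) (d : W ⟶ tgt k a) {φ₀ : src k a ⟶ mid (k := k) b c}
    (h : ∀ x, Function.Surjective (stalkLin (D k _ _ φ₀) x) ∨ Function.Surjective (stalkLin d x)) :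
    ∃ p : MvPolynomial (Fin m) k, p ≠ 0 ∧ ∀ φ, MvPolynomial.eval (e φ) p ≠ 0 → Epi (fam k d φ) := by
  haveI := CMHyper.noetherian k 2
  exact exists_poly_epi e (coh_dual_mid k b c)
    (H10Coh.isCoh_cokernel d hW (H16Derived.KFlat.Stalk.isCoh_of_isFinLocFree (vb_sum k a 2))) (fam k d) φ₀
    (epi_fam_witness k d h)

theorem mM_mem_point {a : ℕ} {x : P2 k} (h1 : ¬ Gen k 1 x) (h2 : ¬ Gen k 2 x) (v : _) :
    stalkLin (pointMap k a) x v ∈ mM (tgt k a) x := by
  let W := (∐ fun _ : Fin a => O k 1)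
  have hv : v = stalkLin (biprod.inl : W ⟶ W ⊞ W) x (stalkLin (biprod.fst : W ⊞ W ⟶ W) x v) +
      stalkLin (biprod.inr : W ⟶ W ⊞ W) x (stalkLin (biprod.snd : W ⊞ W ⟶ W) x v) := by
    rw [← H29Omega.stalkLin_comp, ← H29Omega.stalkLin_comp, ← LinearMap.add_apply,
      ← H02CA.Tango.stalkLin_add, biprod.total]
    exact (H02CA.Tango.stalkLin_id' x v).symm
  rw [hv, map_add]
  refine Submodule.add_mem _ ?_ ?_
  · rw [← H29Omega.stalkLin_comp, biprod.inl_desc]
    exact diag_mem k h1 _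
  · rw [← H29Omega.stalkLin_comp, biprod.inr_desc]
    exact diag_mem k h2 _

theorem exists_poly_mono (a b c : ℕ) (hr : a ≤ b + c) {m : ℕ}
    (e : (src k a ⟶ mid (k := k) b c) ≃ₗ[k] (Fin m → k)) :
    ∃ p : MvPolynomial (Fin m) k, p ≠ 0 ∧ ∀ φ, MvPolynomial.eval (e φ) p ≠ 0 → Mono φ := by
  haveI := CMHyper.noetherian k 2
  haveI := integral k
  obtain ⟨φ₀, hφ₀⟩ := exists_witness k a b c
  obtain ⟨p, hp, hp'⟩ := exists_poly_fam k e
    (W := (∐ fun _ : Fin a => O k 1) ⊞ (∐ fun _ : Fin a => O k 1))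
    (H16Derived.KFlat.Stalk.isCoh_of_isFinLocFree
      (H16Derived.KFlat.Stalk.isFinLocFree_biprod (vb_sum k a 1) (vb_sum k a 1))).1
    (pointMap k a) (φ₀ := φ₀) fun x => by
      by_cases h1 : Gen k 1 x
      · refine Or.inr fun w => ?_
        obtain ⟨v, hv⟩ := surjective_diag k h1 w
        exact ⟨stalkLin biprod.inl x v, by rw [← H29Omega.stalkLin_comp, biprod.inl_desc, hv]⟩
      by_cases h2 : Gen k 2 x
      · refine Or.inr fun w => ?_
        obtain ⟨v, hv⟩ := surjective_diag k h2 w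
        exact ⟨stalkLin biprod.inr x v, by rw [← H29Omega.stalkLin_comp, biprod.inr_desc, hv]⟩
      obtain ⟨s, hs, hlt⟩ := exists_least x
      refine Or.inl (hφ₀ x s ?_ hs hlt)
      fin_cases s
      · simpa using hr
      · exact absurd hs h1
      · exact absurd hs h2
  refine ⟨p, hp, fun φ hφ => ?_⟩
  obtain ⟨x₀, h1, h2⟩ := exists_point k
  exact mono_of_injective_at (vb_sum k a (-2)) (coh_mid k b c).1 φ
    (splitAt_of_epi_fam k _ (hp' φ hφ) fun v => mM_mem_point k h1 h2 v).injective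

/-- `O(-2) → O(-1)`. -/
def m0 (t : Fin 3) : O k (-2) ⟶ O k (-1) :=
  mu k (-2) t ≫ (eqToIso (congrArg (O k) (by norm_num : (-2 : ℤ) + 1 = -1))).hom

theorem good_m0 (t : Fin 3) : Good (m0 k t) (Gen k t) := (good_mu (-2) t).comp_iso _

/-- The banded map onto the first summand. -/
def χfst (a b : ℕ) : src k a ⟶ ∐ fun _ : Fin b => O k (-1) :=
  Sigma.desc fun i : Fin a => row k b (m0 k) i.1

theorem epi_χfst {a b : ℕ} (h : b + 2 ≤ a) : Epi (χfst k a b) :=
  H29Omega.epi_of_surjective_stalkLin _ fun x => by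
    haveI := noeth k
    obtain ⟨s, hs, hlt⟩ := exists_least x
    exact surjective_banded (R := fun _ : Fin a => O k (-2)) (fun _ t => m0 k t)
      (fun i => Sigma.ι (fun _ : Fin a => O k (-2)) i) (χfst k a b) (fun i => Sigma.ι_desc _ _) x
      (finite_stalk_sum k b (-1) x) s (by omega) (fun _ => ((good_m0 k s) x).1 hs)
      (fun _ t ht => ((good_m0 k t) x).2 (hlt t ht))

theorem exists_poly_fst (a b c : ℕ) (h : b + 2 ≤ a) {m : ℕ}
    (e : (src k a ⟶ mid (k := k) b c) ≃ₗ[k] (Fin m → k)) :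
    ∃ p : MvPolynomial (Fin m) k, p ≠ 0 ∧ ∀ φ, MvPolynomial.eval (e φ) p ≠ 0 → Epi (φ ≫ biprod.fst) := by
  haveI := CMHyper.noetherian k 2
  let F := CategoryTheory.Linear.rightComp k (src k a)
    (biprod.fst : mid (k := k) b c ⟶ ∐ fun _ : Fin b => O k (-1))
  have h₀ : Epi (F (χfst k a b ≫ biprod.inl)) := by
    show Epi ((χfst k a b ≫ biprod.inl) ≫ biprod.fst)
    rw [Category.assoc, biprod.inl_fst, Category.comp_id]
    exact epi_χfst k h
  exact exists_poly_epi e (coh_src k a) (H16Derived.KFlat.Stalk.isCoh_of_isFinLocFree (vb_sum k b (-1))) F _ h₀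

theorem isGloballyGenerated_cokernel {a b c : ℕ} (φ : src k a ⟶ mid (k := k) b c) (h : Epi (φ ≫ biprod.fst)) :
    Curv2.IsGloballyGenerated (cokernel φ) := by
  obtain ⟨g, hg⟩ := H10Coh.exists_free_desc (I := ULift.{u} (Fin c))
    fun j => Sigma.ι (fun _ : Fin c => U) j.down ≫ biprod.inr ≫ cokernel.π φ
  have key : ∀ (Q : (P2 k).Modules) (q : cokernel φ ⟶ Q),
      (g : (SheafOfModules.free (ULift.{u} (Fin c)) : (P2 k).Modules) ⟶ cokernel φ) ≫ q = 0 → q = 0 := by
    intro Q q hq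
    have hr : biprod.inr ≫ cokernel.π φ ≫ q = 0 := Sigma.hom_ext _ _ fun j => by
      have e : (H10Coh.freeIncl (ULift.{u} (Fin c)) ⟨j⟩ ≫ g) ≫ q = 0 := by
        rw [Category.assoc]; exact (congrArg _ hq).trans Limits.comp_zero
      rw [hg] at e
      simpa only [Category.assoc, Limits.comp_zero] using e
    have hl : biprod.inl ≫ cokernel.π φ ≫ q = 0 := by
      refine (cancel_epi (φ ≫ biprod.fst)).1 ?_
      have h0 : φ ≫ (biprod.fst ≫ biprod.inl + biprod.snd ≫ biprod.inr) ≫ cokernel.π φ ≫ q = 0 := by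
        rw [biprod.total, Category.id_comp, cokernel.condition_assoc, Limits.zero_comp]
      simp only [Preadditive.add_comp, Category.assoc, hr, Limits.comp_zero, add_zero] at h0
      simpa only [Category.assoc, Limits.comp_zero] using h0
    exact (cancel_epi (cokernel.π φ)).1 ((biprod.hom_ext' _ _ (hl.trans Limits.comp_zero.symm)
      (hr.trans Limits.comp_zero.symm)).trans Limits.comp_zero.symm)
  exact ⟨ULift.{u} (Fin c), g, Preadditive.epi_of_cancel_zero (C := (P2 k).Modules) _ fun {Q} q hq => key Q q hq⟩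

/-- For `α₂ + 2 ≤ α₁ ≤ α₂ + α₃` the general map is injective with globally generated cokernel. -/
theorem globallyGenerated (a b c : ℕ) (hr : a ≤ b + c) (h : b + 2 ≤ a) :
    ∃ (m : ℕ) (e : (src k a ⟶ mid (k := k) b c) ≃ₗ[k] (Fin m → k)) (p : MvPolynomial (Fin m) k), p ≠ 0 ∧
      ∀ φ : src k a ⟶ mid (k := k) b c, MvPolynomial.eval (e φ) p ≠ 0 →
        Mono φ ∧ Curv2.IsGloballyGenerated (cokernel φ) := by
  obtain ⟨m, ⟨e⟩⟩ := exists_coord k a b c
  obtain ⟨p₁, hp₁, hp₁'⟩ := exists_poly_mono k a b c hr e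
  obtain ⟨p₂, hp₂, hp₂'⟩ := exists_poly_fst k a b c h e
  refine ⟨m, e, p₁ * p₂, mul_ne_zero hp₁ hp₂, fun φ hφ => ?_⟩
  rw [map_mul] at hφ
  exact ⟨hp₁' φ (left_ne_zero_of_mul hφ), isGloballyGenerated_cokernel k φ (hp₂' φ (right_ne_zero_of_mul hφ))⟩

end Groth.Agent.H10Coh.GaetaGen
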