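import Groth.Agent.H10Coh.GaetaGen.Points
import Groth.Agent.H10Coh.GaetaGen.Generated
import Mathlib.LinearAlgebra.Vandermonde

/-! # A Gaeta map separating points of a line -/

set_option autoImplicit false
set_option backward.isDefEq.respectTransparency.types false
set_option linter.style.haveILetI false
set_option linter.unusedSectionVars false

universe u

open CategoryTheory CategoryTheory.Limits AlgebraicGeometry Opposite
open Groth.Agent.H06Mod (stalkLin)
attribute [local instance] Abelian.hasFiniteBiproducts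

noncomputable section

namespace Groth.Agent.H10Coh.GaetaGen

open H22Alg H22Alg.CMField H10Coh.Gaeta
open Groth.Agent.H11Proj

variable (k : Type u) [Field k]

local notation "U" => Coh.structureModule (P2 k)

theorem stalkLin_smul {M N : (P2 k).Modules} (c : k) (f : M ⟶ N) (x : P2 k) (z : M.presheaf.stalk x) :
    stalkLin (c • f) x z = σ k x c • stalkLin f x z := by
  obtain ⟨V, hV, s, rfl⟩ := TopCat.Presheaf.exists_germ_eq _ z
  rw [H06Mod.stalkLin_germ, H06Mod.stalkLin_germ, KLin.smul_app_apply, H06Mod.germ_smul]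
  exact congrArg (· • _) (TopCat.Presheaf.germ_res_apply _ _ _ _ _)

theorem stalkLin_sub {M N : (P2 k).Modules} (f g : M ⟶ N) (x : P2 k) (z : M.presheaf.stalk x) :
    stalkLin (f - g) x z = stalkLin f x z - stalkLin g x z := by
  rw [eq_sub_iff_add_eq, ← LinearMap.add_apply, ← H02CA.Tango.stalkLin_add, sub_add_cancel]

/-- `O(-1) → O`. -/
def m3 (t : Fin 3) : O k (-1) ⟶ U :=
  mu k (-1) t ≫ (eqToIso (congrArg (O k) (neg_add_cancel (1 : ℤ))) ≪≫ (CMField.setup k 2).fam.zero.some).hom

/-- `O(-2) → O`. -/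
def ν (t : Fin 3) : O k (-2) ⟶ U := m0 k 0 ≫ m3 k t

theorem bijective_stalk_mu (a : ℤ) {t : Fin 3} {y : P2 k} (h : Gen k t y) :
    Function.Bijective (stalkLin (mu k a t) y) := by
  haveI := SectionCut.isIso_stalk_mul (H11Tilde.homOfGlobal (O k 1) (CMField.coords k 2 t)) (O k a)
    (show y ∈ CohB1.genLocus (O k 1) _ by rw [H11Ample.genLocus_eq_gen, H11Ample.val_homOfGlobal]; exact h)
  haveI : IsIso ((DerSch.stalkFunctor (P2 k) y).map (mu k a t)) := by
    rw [mu, Functor.map_comp]; infer_instance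
  exact ConcreteCategory.bijective_of_isIso ((DerSch.stalkFunctor (P2 k) y).map (mu k a t))

theorem bijective_stalk_comp {M N Q : (P2 k).Modules} {f : M ⟶ N} {g : N ⟶ Q} {y : P2 k}
    (hf : Function.Bijective (stalkLin f y)) (hg : Function.Bijective (stalkLin g y)) :
    Function.Bijective (stalkLin (f ≫ g) y) := by
  have h : (stalkLin (f ≫ g) y : _ → _) = stalkLin g y ∘ stalkLin f y :=
    funext fun v => H29Omega.stalkLin_comp f g y v
  rw [h]; exact hg.comp hf

theorem bijective_stalk_iso {M N : (P2 k).Modules} (e : M ≅ N) (y : P2 k) :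
    Function.Bijective (stalkLin e.hom y) :=
  ConcreteCategory.bijective_of_isIso ((DerSch.stalkFunctor (P2 k) y).map e.hom)

theorem bijective_m0 {y : P2 k} (h : Gen k 0 y) : Function.Bijective (stalkLin (m0 k 0) y) :=
  bijective_stalk_comp k (bijective_stalk_mu k (-2) h) (bijective_stalk_iso k _ y)

theorem bijective_ν {y : P2 k} (h : Gen k 0 y) : Function.Bijective (stalkLin (ν k 0) y) :=
  bijective_stalk_comp k (bijective_m0 k h)
    (bijective_stalk_comp k (bijective_stalk_mu k (-1) h) (bijective_stalk_iso k _ y))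

theorem ν_sub_mem {y : P2 k} (hy : y ∈ SepPts.U (k := k) (n := 2) 0) {α : k}
    (hα : (P2 k).presheaf.germ (SepPts.U (k := k) (n := 2) 0) y hy (SepPts.t 0 1) - σ k y α ∈
      IsLocalRing.maximalIdeal ((P2 k).presheaf.stalk y)) (v : (O k (-2)).presheaf.stalk y) :
    stalkLin (ν k 1) y v - σ k y α • stalkLin (ν k 0) y v ∈ mM U y := by
  simp only [ν, m3, H29Omega.stalkLin_comp]
  rw [← map_smul, ← map_sub]
  exact stalkLin_mem_mM _ y (mu_one_sub_mem k (-1) hy hα _)

variable (a2 r n : ℕ)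

/-- The index of the sources. -/
def E1 : Fin (a2 + r * n) ≃ Fin a2 ⊕ (Fin r × Fin n) :=
  finSumFinEquiv.symm.trans (Equiv.sumCongr (Equiv.refl _) finProdFinEquiv.symm)

/-- The index of the constants. -/
def E3 : Fin (r * (n + 1)) ≃ Fin r × Fin (n + 1) := finProdFinEquiv.symm

/-- The components of the witness. -/
def comp₀ : Fin a2 ⊕ (Fin r × Fin n) → (O k (-2) ⟶ mid (k := k) a2 (r * (n + 1)))
  | Sum.inl a => m0 k 0 ≫ Sigma.ι (fun _ : Fin a2 => O k (-1)) a ≫ biprod.inl
  | Sum.inr q => (ν k 1 ≫ Sigma.ι (fun _ : Fin (r * (n + 1)) => U) ((E3 r n).symm (q.1, q.2.castSucc)) -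
      ν k 0 ≫ Sigma.ι (fun _ : Fin (r * (n + 1)) => U) ((E3 r n).symm (q.1, q.2.succ))) ≫ biprod.inr

/-- The witness. -/
def φline : src k (a2 + r * n) ⟶ mid (k := k) a2 (r * (n + 1)) :=
  Sigma.desc fun i => comp₀ k a2 r n (E1 a2 r n i)

/-- A functional on the constants. -/
def W (ρ : Fin r) (c : Fin (n + 1) → k) : mid (k := k) a2 (r * (n + 1)) ⟶ U :=
  biprod.snd ≫ ∑ l, c l • H02CA.Euler.proj (fun _ : Fin (r * (n + 1)) => U) ((E3 r n).symm (ρ, l))

theorem ι_sum_proj (ρ ρ' : Fin r) (p : Fin (n + 1)) (c : Fin (n + 1) → k) :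
    Sigma.ι (fun _ : Fin (r * (n + 1)) => U) ((E3 r n).symm (ρ', p)) ≫
      ∑ l, c l • H02CA.Euler.proj (fun _ : Fin (r * (n + 1)) => U) ((E3 r n).symm (ρ, l)) =
      if ρ' = ρ then c p • 𝟙 U else 0 := by
  classical
  rw [Preadditive.comp_sum, Finset.sum_eq_single p]
  · rw [Linear.comp_smul, H02CA.Euler.ι_proj]
    by_cases h : ρ' = ρ
    · subst h; simp
    · simp [h]
  · intro b _ hb
    rw [Linear.comp_smul, H02CA.Euler.ι_proj]
    simp [hb.symm]
  · simp

theorem comp₀_inl_W (a : Fin a2) (ρ : Fin r) (c : Fin (n + 1) → k) :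
    comp₀ k a2 r n (Sum.inl a) ≫ W k a2 r n ρ c = 0 := by simp [comp₀, W]

theorem comp₀_inr_W (ρ ρ' : Fin r) (p : Fin n) (c : Fin (n + 1) → k) :
    comp₀ k a2 r n (Sum.inr (ρ', p)) ≫ W k a2 r n ρ c =
      if ρ' = ρ then c p.castSucc • ν k 1 - c p.succ • ν k 0 else 0 := by
  simp only [comp₀, W, Category.assoc, biprod.inr_snd_assoc, Preadditive.sub_comp, ι_sum_proj]
  split_ifs with h <;> simp

theorem comp₀_W_mem {y : P2 k} (hy : y ∈ SepPts.U (k := k) (n := 2) 0) {α : k}
    (hα : (P2 k).presheaf.germ (SepPts.U (k := k) (n := 2) 0) y hy (SepPts.t 0 1) - σ k y α ∈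
      IsLocalRing.maximalIdeal ((P2 k).presheaf.stalk y))
    (ρ ρ' : Fin r) (p : Fin n) (c : Fin (n + 1) → k) (v : (O k (-2)).presheaf.stalk y) :
    stalkLin (W k a2 r n ρ c) y (stalkLin (comp₀ k a2 r n (Sum.inr (ρ', p))) y v) -
      (if ρ' = ρ then σ k y (c p.castSucc * α - c p.succ) • stalkLin (ν k 0) y v else 0) ∈ mM U y := by
  rw [← H29Omega.stalkLin_comp, comp₀_inr_W]
  split_ifs with h
  · rw [stalkLin_sub, stalkLin_smul, stalkLin_smul, map_sub, map_mul, sub_smul, mul_smul,
      sub_sub_sub_cancel_right, ← smul_sub]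
    exact Submodule.smul_mem _ _ (ν_sub_mem k hy hα v)
  · rw [H02CA.Tango.stalkLin_zero, LinearMap.zero_apply, sub_zero]
    exact zero_mem _

/-- Powers of the coordinate. -/
def geo (α : k) : Fin (n + 1) → k := fun l => α ^ l.1

/-- The functional dual to the `i`-th column. -/
def coef (α : k) (i : Fin n) : Fin (n + 1) → k := fun l => if i.1 < l.1 then -α ^ (l.1 - i.1 - 1) else 0

theorem coef_spec (α : k) (i p : Fin n) :
    coef k n α i p.castSucc * α - coef k n α i p.succ = if i = p then 1 else 0 := by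
  simp only [coef, Fin.val_castSucc, Fin.val_succ]
  rcases lt_trichotomy i.1 p.1 with h | h | h
  · rw [if_pos h, if_pos (by omega), if_neg (fun e => by omega), neg_mul, ← pow_succ,
      show p.1 - i.1 - 1 + 1 = p.1 + 1 - i.1 - 1 by omega, sub_self]
  · rw [if_neg (by omega), if_pos (by omega), if_pos (Fin.ext h), show p.1 + 1 - i.1 - 1 = 0 by omega]
    simp
  · rw [if_neg (by omega), if_neg (by omega), if_neg (fun e => by omega)]
    simp

theorem geo_spec (α : k) (p : Fin n) : geo k n α p.castSucc * α - geo k n α p.succ = 0 := by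
  simp [geo, pow_succ]

theorem stalk_W_mem {y : P2 k} (hy : y ∈ SepPts.U (k := k) (n := 2) 0) {α : k}
    (hα : (P2 k).presheaf.germ (SepPts.U (k := k) (n := 2) 0) y hy (SepPts.t 0 1) - σ k y α ∈
      IsLocalRing.maximalIdeal ((P2 k).presheaf.stalk y)) (ρ : Fin r) {w : _}
    (hw : w ∈ LinearMap.range (stalkLin (φline k a2 r n) y) ⊔ mM (mid (k := k) a2 (r * (n + 1))) y) :
    stalkLin (W k a2 r n ρ (geo k n α)) y w ∈ mM U y := by
  classical
  obtain ⟨_, ⟨v, rfl⟩, m, hm, rfl⟩ := Submodule.mem_sup.1 hw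
  rw [map_add]
  refine add_mem ?_ (stalkLin_mem_mM _ y hm)
  rw [H02CA.Tango.eq_sum_proj (O k (-2)) y v, map_sum, map_sum]
  refine Submodule.sum_mem _ fun i _ => ?_
  rw [← H29Omega.stalkLin_comp _ (φline k a2 r n), φline, Sigma.ι_desc]
  rcases hi : E1 a2 r n i with a | ⟨ρ', p⟩
  · rw [← H29Omega.stalkLin_comp, comp₀_inl_W, H02CA.Tango.stalkLin_zero]
    exact zero_mem _
  · have h := comp₀_W_mem k a2 r n hy hα ρ ρ' p (geo k n α)
      (stalkLin (H02CA.Euler.proj (fun _ : Fin (a2 + r * n) => O k (-2)) i) y v)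
    rw [geo_spec] at h
    simpa using h

theorem splitAt_φline {y : P2 k} (hy : y ∈ SepPts.U (k := k) (n := 2) 0) {α : k}
    (hα : (P2 k).presheaf.germ (SepPts.U (k := k) (n := 2) 0) y hy (SepPts.t 0 1) - σ k y α ∈
      IsLocalRing.maximalIdeal ((P2 k).presheaf.stalk y)) : SplitAt (φline k a2 r n) y := by
  classical
  let e0 := LinearEquiv.ofBijective _ (bijective_m0 k (gen_zero_of_mem k hy))
  let e1 := LinearEquiv.ofBijective _ (bijective_ν k (gen_zero_of_mem k hy))
  let A := src k (a2 + r * n)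
  let B := mid (k := k) a2 (r * (n + 1))
  let ri : Fin a2 ⊕ (Fin r × Fin n) → (B.presheaf.stalk y →ₗ[(P2 k).presheaf.stalk y] (O k (-2)).presheaf.stalk y) :=
    fun s => match s with
      | Sum.inl a => e0.symm.toLinearMap ∘ₗ stalkLin (biprod.fst ≫ H02CA.Euler.proj (fun _ : Fin a2 => O k (-1)) a : B ⟶ _) y
      | Sum.inr q => e1.symm.toLinearMap ∘ₗ stalkLin (W k a2 r n q.1 (coef k n α q.2)) y
  have hri : ∀ s t (v : (O k (-2)).presheaf.stalk y),
      ri s (stalkLin (comp₀ k a2 r n t) y v) - (if s = t then v else 0) ∈ mM (O k (-2)) y := by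
    rintro (a | ⟨ρ, i⟩) (b | ⟨ρ', p⟩) v
    · refine (congrArg (· ∈ mM (O k (-2)) y) ?_).mpr (zero_mem _)
      show e0.symm _ - _ = 0
      rw [← H29Omega.stalkLin_comp, sub_eq_zero, LinearEquiv.symm_apply_eq]
      simp only [comp₀, Category.assoc, biprod.inl_fst_assoc, H02CA.Euler.ι_proj]
      by_cases h : b = a
      · subst h; simp [e0]
      · simp [h, Ne.symm h, H02CA.Tango.stalkLin_zero]
    · refine (congrArg (· ∈ mM (O k (-2)) y) ?_).mpr (zero_mem _)
      show e0.symm _ - _ = 0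
      rw [← H29Omega.stalkLin_comp]
      simp [comp₀, H02CA.Tango.stalkLin_zero]
    · refine (congrArg (· ∈ mM (O k (-2)) y) ?_).mpr (zero_mem _)
      show e1.symm _ - _ = 0
      rw [← H29Omega.stalkLin_comp, comp₀_inl_W]
      simp [H02CA.Tango.stalkLin_zero]
    · have h := comp₀_W_mem k a2 r n hy hα ρ ρ' p (coef k n α i) v
      rw [coef_spec] at h
      have h2 : ∀ z ∈ mM U y, e1.symm z ∈ mM (O k (-2)) y := fun z hz => by
        have hle : Submodule.map e1.symm.toLinearMap (mM U y) ≤ mM (O k (-2)) y := by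
          rw [Submodule.map_smul'']
          exact Submodule.smul_mono le_rfl le_top
        exact hle ⟨z, hz, rfl⟩
      refine (congrArg (· ∈ mM (O k (-2)) y) ?_).mp (h2 _ h)
      show e1.symm (_ - _) = e1.symm _ - _
      rw [map_sub]
      congr 1
      by_cases h1 : ρ' = ρ
      · by_cases h3 : i = p
        · subst h1 h3; simp [e1]
        · subst h1; simp [h3]
      · simp [h1, Ne.symm h1]
  let R : B.presheaf.stalk y →ₗ[(P2 k).presheaf.stalk y] A.presheaf.stalk y :=
    ∑ i, stalkLin (Sigma.ι (fun _ : Fin (a2 + r * n) => O k (-2)) i) y ∘ₗ ri (E1 a2 r n i)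
  let T := R ∘ₗ stalkLin (φline k a2 r n) y
  have hT : ∀ w, T w - w ∈ mM A y := by
    have hp : ∀ p v, T (stalkLin (Sigma.ι (fun _ : Fin (a2 + r * n) => O k (-2)) p) y v) -
        stalkLin (Sigma.ι (fun _ : Fin (a2 + r * n) => O k (-2)) p) y v ∈ mM A y := fun p v => by
      have he : T (stalkLin (Sigma.ι (fun _ : Fin (a2 + r * n) => O k (-2)) p) y v) -
          stalkLin (Sigma.ι (fun _ : Fin (a2 + r * n) => O k (-2)) p) y v =
          ∑ i, stalkLin (Sigma.ι (fun _ : Fin (a2 + r * n) => O k (-2)) i) y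
            (ri (E1 a2 r n i) (stalkLin (comp₀ k a2 r n (E1 a2 r n p)) y v) -
              (if E1 a2 r n i = E1 a2 r n p then v else 0)) := by
        simp only [map_sub, Finset.sum_sub_distrib]
        congr 1
        · simp only [T, R, LinearMap.comp_apply, LinearMap.sum_apply]
          rw [← H29Omega.stalkLin_comp, φline, Sigma.ι_desc]
        · rw [Finset.sum_eq_single p]
          · simp
          · intro b _ hb
            simp [hb]
          · simp
      rw [he]
      exact Submodule.sum_mem _ fun i _ => stalkLin_mem_mM _ y (hri _ _ v)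
    intro w
    rw [H02CA.Tango.eq_sum_proj (O k (-2)) y w, map_sum, ← Finset.sum_sub_distrib]
    exact Submodule.sum_mem _ fun p _ => hp p _
  haveI : Module.Finite ((P2 k).presheaf.stalk y) (A.presheaf.stalk y) := finite_stalk_sum k (a2 + r * n) (-2) y
  have hsurj : Function.Surjective T := LinearMap.range_eq_top.1 (top_le_iff.1
    (Submodule.le_of_le_smul_of_le_jacobson_bot Module.Finite.fg_top (IsLocalRing.maximalIdeal_le_jacobson ⊥)
      fun w _ => by
        rw [show w = T w + -(T w - w) by abel]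
        exact Submodule.add_mem_sup (LinearMap.mem_range_self _ _) (neg_mem (hT w))))
  let eT := LinearEquiv.ofBijective T ⟨OrzechProperty.injective_of_surjective_endomorphism T hsurj, hsurj⟩
  exact ⟨eT.symm.toLinearMap ∘ₗ R, LinearMap.ext fun v => eT.symm_apply_apply v⟩

/-- The germ of the unit section. -/
abbrev one1 (y : P2 k) : (Coh.structureModule (P2 k)).presheaf.stalk y :=
  (Coh.structureModule (P2 k)).presheaf.germ ⊤ y trivial (H11Ample.one ⊤)

theorem eq_zero_of_const_mem {y : P2 k} (c : k) (h : σ k y c • one1 k y ∈ mM U y) : c = 0 := by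
  by_contra hc
  have hu : IsUnit (σ k y c) := (IsUnit.mk0 c hc).map _
  have htop : mM U y = ⊤ := by
    refine eq_top_iff.2 fun z _ => ?_
    obtain ⟨s, rfl⟩ := (H11Ample.isGen_one (X := P2 k) ⊤ y trivial).2 z
    obtain ⟨w, hw⟩ := hu
    have := Submodule.smul_mem _ (s * (↑w⁻¹ : (P2 k).presheaf.stalk y)) h
    rwa [← hw, smul_smul, mul_assoc, Units.inv_mul, mul_one] at this
  haveI : Module.Finite ((P2 k).presheaf.stalk y) ((Coh.structureModule (P2 k)).presheaf.stalk y) :=
    haveI := noeth k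
    H29Ref.finite_stalk _ (H16Derived.KFlat.Stalk.isCoh_of_isFinLocFree (vb_unit k)).2 y
  have h0 := Submodule.eq_bot_of_le_smul_of_le_jacobson_bot (IsLocalRing.maximalIdeal _)
    (⊤ : Submodule _ ((Coh.structureModule (P2 k)).presheaf.stalk y)) Module.Finite.fg_top htop.ge
    (IsLocalRing.maximalIdeal_le_jacobson ⊥)
  have h1 : one1 k y = 0 := (Submodule.mem_bot _).1 (h0.le (Submodule.mem_top (x := one1 k y)))
  exact zero_ne_one ((H11Ample.isGen_one (X := P2 k) ⊤ y trivial).1
    (show (0 : (P2 k).presheaf.stalk y) • one1 k y = (1 : (P2 k).presheaf.stalk y) • one1 k y by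
      rw [h1, smul_zero, smul_zero]))

/-- A global section whose germs at the points are in the image is zero. -/
theorem section_eq_zero [IsAlgClosed k] (α : Fin (n + 1) → k) (hα : Function.Injective α) (y : Fin (n + 1) → P2 k)
    (hy : ∀ j, y j ∈ SepPts.U (k := k) (n := 2) 0)
    (hyα : ∀ j, (P2 k).presheaf.germ (SepPts.U (k := k) (n := 2) 0) (y j) (hy j) (SepPts.t 0 1) - σ k (y j) (α j) ∈
      IsLocalRing.maximalIdeal ((P2 k).presheaf.stalk (y j)))
    (S : U ⟶ mid (k := k) a2 (r * (n + 1)))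
    (hS : ∀ j, stalkLin S (y j) (one1 k (y j)) ∈ LinearMap.range (stalkLin (φline k a2 r n) (y j)) ⊔
      mM (mid (k := k) a2 (r * (n + 1))) (y j)) : S = 0 := by
  classical
  have hO : ∀ g : U ⟶ O k (-1), g = 0 := fun g => by
    rw [← cancel_epi (CMField.setup k 2).fam.zero.some.hom, Limits.comp_zero]
    exact hom_eq_zero (van_iff.1 (van_O_tensor (a := -1) (b := -0) (by omega) (by omega))) _
  choose c hc using fun l : Fin (r * (n + 1)) =>
    end_scalar_unit (S ≫ biprod.snd ≫ H02CA.Euler.proj (fun _ : Fin (r * (n + 1)) => U) l)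
  have hzero : ∀ ρ : Fin r, (fun l => c ((E3 r n).symm (ρ, l))) = 0 := fun ρ => by
    refine Matrix.eq_zero_of_forall_index_sum_mul_pow_eq_zero hα fun j => ?_
    refine eq_zero_of_const_mem k _ ?_ (y := y j)
    have h := stalk_W_mem k a2 r n (hy j) (hyα j) ρ (hS j)
    have he : S ≫ W k a2 r n ρ (geo k n (α j)) =
        (∑ l : Fin (n + 1), c ((E3 r n).symm (ρ, l)) * α j ^ l.1) • 𝟙 U := by
      simp only [W, Preadditive.comp_sum, Linear.comp_smul]
      simp only [hc, smul_smul, Finset.sum_smul, geo, mul_comm]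
    rw [← H29Omega.stalkLin_comp, he, stalkLin_smul, H02CA.Tango.stalkLin_id'] at h
    exact h
  refine biprod.hom_ext _ _ ?_ ?_
  · rw [Limits.zero_comp, ← Category.comp_id (S ≫ biprod.fst), ← H02CA.Euler.sum_proj_ι, Preadditive.comp_sum]
    exact Finset.sum_eq_zero fun l _ => by rw [← Category.assoc, hO ((S ≫ biprod.fst) ≫ _), Limits.zero_comp]
  · rw [Limits.zero_comp, ← Category.comp_id (S ≫ biprod.snd), ← H02CA.Euler.sum_proj_ι, Preadditive.comp_sum]
    refine Finset.sum_eq_zero fun l _ => ?_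
    obtain ⟨⟨ρ, p⟩, rfl⟩ := (E3 r n).symm.surjective l
    rw [← Category.assoc, Category.assoc S, hc, show c ((E3 r n).symm (ρ, p)) = 0 from congrFun (hzero ρ) p]
    simp

end Groth.Agent.H10Coh.GaetaGen
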