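import Groth.Agent.H10Coh.GaetaGen.Witness
import Groth.Agent.H11Proj.SeparatesPoints

/-! # Multiplication by coordinates at rational points of a line -/

set_option autoImplicit false
set_option backward.isDefEq.respectTransparency.types false
set_option linter.style.haveILetI false
set_option linter.unusedSectionVars false

universe u

open CategoryTheory CategoryTheory.Limits AlgebraicGeometry Opposite
open scoped TensorProduct
open Groth.Agent.H06Mod (stalkLin)

noncomputable section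

namespace Groth.Agent.H10Coh.GaetaGen

open H22Alg H10Coh.Gaeta
open Groth.Agent.H11Proj

variable (k : Type u) [Field k]

local notation "PP" => CohB1.ProjSpace 2 k

/-- The scalars in a local ring. -/
def σ (x : P2 k) : k →+* (P2 k).presheaf.stalk x :=
  ((P2 k).presheaf.germ ⊤ x trivial).hom.comp (ProjUP.toGlobal (CohB1.ProjSpace.toSpec 2 k))

theorem chart_injective (i : Fin 3) : Function.Injective (SepPts.γ (k := k) (n := 2) i) :=
  (ConcreteCategory.bijective_of_isIso
    (Proj.basicOpenIsoAway (CohB1.polyGrading 2 k) _ (ProjSpace.X_mem 2 k i) one_pos).hom).1.comp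
    (ProjSpace.chartMap_bijective 2 k i).1

/-- The point `(1 : α : 0)`. -/
theorem exists_point_line [IsAlgClosed k] (α : k) :
    ∃ (y : P2 k) (hy : y ∈ SepPts.U (k := k) (n := 2) 0),
      IsClosed ({y} : Set (P2 k)) ∧
      (P2 k).presheaf.germ (SepPts.U (k := k) (n := 2) 0) y hy (SepPts.t 0 1) - σ k y α ∈
        IsLocalRing.maximalIdeal ((P2 k).presheaf.stalk y) := by
  let γ := SepPts.γ (k := k) (n := 2) 0
  let x : {j : Fin 3 // j ≠ 0} → k := fun j => if j.1 = 1 then α else 0
  let m : Ideal (MvPolynomial {j : Fin 3 // j ≠ 0} k) := MvPolynomial.vanishingIdeal k {x}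
  haveI hm : m.IsMaximal := (MvPolynomial.isMaximal_iff_eq_vanishingIdeal_singleton (K := k)).2 ⟨x, rfl⟩
  let e := RingEquiv.ofBijective γ ⟨chart_injective k 0, SepPts.γ_surjective 0⟩
  let p : Ideal Γ(PP, SepPts.U (k := k) (n := 2) 0) := m.map e
  haveI hp : p.IsMaximal := Ideal.map_isMaximal_of_equiv e
  have hA := SepPts.isAffineOpen_U (k := k) (n := 2) 0
  let P : PrimeSpectrum Γ(PP, SepPts.U (k := k) (n := 2) 0) := ⟨p, hp.isPrime⟩
  have hy : hA.fromSpec P ∈ SepPts.U (k := k) (n := 2) 0 := by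
    rw [← SetLike.mem_coe, ← hA.range_fromSpec]; exact ⟨P, rfl⟩
  have hP : hA.primeIdealOf ⟨hA.fromSpec P, hy⟩ = P :=
    hA.fromSpec.isOpenEmbedding.injective (hA.fromSpec_primeIdealOf _)
  refine ⟨hA.fromSpec P, hy, ?_, ?_⟩
  · haveI := CMHyper.noetherian k 2
    haveI : IsProper (P2 k ↘ Spec (CommRingCat.of k)) := MumfordBound.proper_toSpec (k := k) (n := 2)
    haveI : JacobsonSpace (P2 k) := LocallyOfFiniteType.jacobsonSpace (P2 k ↘ Spec (CommRingCat.of k))
    have hc : IsClosed ({P} : Set (Spec Γ(PP, SepPts.U (k := k) (n := 2) 0))) :=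
      (PrimeSpectrum.isClosed_singleton_iff_isMaximal P).2 hp
    exact (hA.fromSpec.isOpenEmbedding.preimage_closedPoints.ge (show P ∈ closedPoints _ from hc) :)
  · letI := TopCat.Presheaf.algebra_section_stalk (P2 k).presheaf ⟨hA.fromSpec P, hy⟩
    haveI := hA.isLocalization_stalk ⟨hA.fromSpec P, hy⟩
    have h1 : SepPts.t 0 1 - SepPts.κ 0 α ∈ (hA.primeIdealOf ⟨hA.fromSpec P, hy⟩).asIdeal := by
      rw [hP]
      have h : (MvPolynomial.X ⟨1, by decide⟩ - MvPolynomial.C α : MvPolynomial {j : Fin 3 // j ≠ 0} k) ∈ m := by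
        simp [m, x, MvPolynomial.mem_vanishingIdeal_iff]
      have h' := Ideal.mem_map_of_mem e h
      rw [map_sub] at h'
      have e1 : e (MvPolynomial.X ⟨1, by decide⟩) = SepPts.t 0 1 := SepPts.γ_X 0 ⟨1, by decide⟩
      have e2 : e (MvPolynomial.C α) = SepPts.κ 0 α := (RingHom.congr_fun (SepPts.κ_eq 0) α).symm
      rwa [e1, e2] at h'
    have h2 := (IsLocalization.AtPrime.to_map_mem_maximal_iff ((P2 k).presheaf.stalk (hA.fromSpec P))
      (hA.primeIdealOf ⟨hA.fromSpec P, hy⟩).asIdeal _).2 h1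
    have e3 : (P2 k).presheaf.germ (SepPts.U (k := k) (n := 2) 0) (hA.fromSpec P) hy (SepPts.κ 0 α) =
        σ k (hA.fromSpec P) α := TopCat.Presheaf.germ_res_apply _ _ _ _ _
    rw [← e3]
    refine (congrArg (· ∈ IsLocalRing.maximalIdeal _) ?_).mp h2
    exact map_sub _ _ _

theorem stalkLin_mul_smul {L : (P2 k).Modules} (v w : Γ(L, ⊤)) (M : (P2 k).Modules) (x : P2 k)
    (c : (P2 k).presheaf.stalk x)
    (h : L.presheaf.germ ⊤ x trivial v = c • L.presheaf.germ ⊤ x trivial w) (z : M.presheaf.stalk x) :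
    stalkLin (SectionCut.mul (H11Tilde.homOfGlobal L v) M) x z =
      c • stalkLin (SectionCut.mul (H11Tilde.homOfGlobal L w) M) x z := by
  let St := DerSch.stalkFunctor (P2 k) x
  let R := (P2 k).presheaf.stalk x
  have hs : St.map (H11Tilde.homOfGlobal L v) = c • St.map (H11Tilde.homOfGlobal L w) := by
    refine ModuleCat.hom_ext (LinearMap.ext fun p => ?_)
    obtain ⟨r, hr⟩ := (H11Ample.isGen_one (X := P2 k) ⊤ x trivial).2 p
    have hg : ∀ u : Γ(L, ⊤), stalkLin (H11Tilde.homOfGlobal L u) x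
        ((Coh.structureModule (P2 k)).presheaf.germ ⊤ x trivial (H11Ample.one ⊤)) =
          L.presheaf.germ ⊤ x trivial u := fun u => by
      rw [H06Mod.stalkLin_germ]
      exact congrArg (L.presheaf.germ ⊤ x trivial) (Gaeta.homOfGlobal_val u)
    subst hr
    show stalkLin (H11Tilde.homOfGlobal L v) x (r • _) = c • stalkLin (H11Tilde.homOfGlobal L w) x (r • _)
    rw [map_smul, map_smul, hg, hg, h, smul_comm]
  let e := H16Derived.KFlat.Stalk.leftIso M x
  have key : ∀ u : Γ(L, ⊤), St.map (SectionCut.mul (H11Tilde.homOfGlobal L u) M) =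
      St.map ((H28Vert.tensorRightUnitIso (X := P2 k)).inv.app M) ≫ e.hom.app _ ≫
        (MonoidalCategory.tensorLeft (St.obj M)).map (St.map (H11Tilde.homOfGlobal L u)) ≫ e.inv.app L := by
    intro u
    have e' : (((DCoh.tensorBi (X := P2 k)).obj M) ⋙ St).map (H11Tilde.homOfGlobal L u) =
        e.hom.app _ ≫ (MonoidalCategory.tensorLeft (St.obj M)).map (St.map (H11Tilde.homOfGlobal L u)) ≫
          e.inv.app L := by
      rw [← Category.assoc]
      exact (Iso.eq_comp_inv (e.app L)).2 (e.hom.naturality _)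
    rw [SectionCut.mul, Functor.map_comp]
    exact congrArg _ e'
  show (St.map (SectionCut.mul (H11Tilde.homOfGlobal L v) M)).hom z =
    c • (St.map (SectionCut.mul (H11Tilde.homOfGlobal L w) M)).hom z
  rw [key v, key w, hs]
  have hlin : (MonoidalCategory.tensorLeft (St.obj M)).map (c • St.map (H11Tilde.homOfGlobal L w)) =
      c • (MonoidalCategory.tensorLeft (St.obj M)).map (St.map (H11Tilde.homOfGlobal L w)) :=
    MonoidalLinear.whiskerLeft_smul _ _ _
  rw [hlin, Linear.smul_comp, Linear.comp_smul, Linear.comp_smul]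
  rfl

/-- At `(1 : α : 0)` the coordinate `x₁` multiplies like `α` times `x₀`. -/
theorem mu_one_sub_mem (a : ℤ) {y : P2 k} (hy : y ∈ SepPts.U (k := k) (n := 2) 0) {α : k}
    (hα : (P2 k).presheaf.germ (SepPts.U (k := k) (n := 2) 0) y hy (SepPts.t 0 1) - σ k y α ∈
      IsLocalRing.maximalIdeal ((P2 k).presheaf.stalk y)) (z : (O k a).presheaf.stalk y) :
    stalkLin (mu k a 1) y z - σ k y α • stalkLin (mu k a 0) y z ∈ mM (O k (a + 1)) y := by
  have hg : (O k 1).presheaf.germ ⊤ y trivial (CMField.coords k 2 1) =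
      (P2 k).presheaf.germ (SepPts.U (k := k) (n := 2) 0) y hy (SepPts.t 0 1) •
        (O k 1).presheaf.germ ⊤ y trivial (CMField.coords k 2 0) := by
    have h := congrArg ((O k 1).presheaf.germ (SepPts.U (k := k) (n := 2) 0) y hy)
      (H11Tilde.globalSec_eq_ratio_smul (CohB1.polyGrading 2 k) (ProjSpace.X_mem 2 k 0) (ProjSpace.X_mem 2 k 1))
    refine ((TopCat.Presheaf.germ_res_apply (O k 1).presheaf _ _ _ _).symm.trans (h.trans
      (H06Mod.germ_smul (O k 1) _ hy _ _))).trans ?_
    exact congrArg _ (TopCat.Presheaf.germ_res_apply (O k 1).presheaf _ _ _ _)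
  simp only [mu, H29Omega.stalkLin_comp]
  erw [stalkLin_mul_smul k _ _ (O k a) y _ hg z, map_smul]
  refine (congrArg (· ∈ mM (O k (a + 1)) y) (sub_smul _ _ _)).mp ?_
  exact Submodule.smul_mem_smul hα Submodule.mem_top

theorem gen_zero_of_mem {y : P2 k} (hy : y ∈ SepPts.U (k := k) (n := 2) 0) : Gen k 0 y := by
  show y ∈ H11Ample.gen (O k 1) (CMField.coords k 2 0)
  exact (H11Ample.gen_coord (R := k) (n := 2) 0).ge hy

theorem eq_of_line {y : P2 k} (hy : y ∈ SepPts.U (k := k) (n := 2) 0) {α β : k}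
    (hα : (P2 k).presheaf.germ (SepPts.U (k := k) (n := 2) 0) y hy (SepPts.t 0 1) - σ k y α ∈
      IsLocalRing.maximalIdeal ((P2 k).presheaf.stalk y))
    (hβ : (P2 k).presheaf.germ (SepPts.U (k := k) (n := 2) 0) y hy (SepPts.t 0 1) - σ k y β ∈
      IsLocalRing.maximalIdeal ((P2 k).presheaf.stalk y)) : α = β := by
  by_contra hne
  have h := sub_mem hα hβ
  rw [sub_sub_sub_cancel_left, ← map_sub] at h
  exact (IsLocalRing.mem_maximalIdeal _).1 h ((IsUnit.mk0 _ (sub_ne_zero.2 (Ne.symm hne))).map _)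

end Groth.Agent.H10Coh.GaetaGen
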