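import Groth.Agent.H10Coh.GaetaGen.Cohom
import Groth.Agent.H10Coh.TensorTilde
import Groth.Agent.H25Par.GPDeg
import Groth.Agent.H29RR.PointAux

/-! # Cohomologically trivial Gaeta cokernels twisted by points -/

set_option autoImplicit false
set_option backward.isDefEq.respectTransparency.types false
set_option linter.style.haveILetI false
set_option linter.unusedSectionVars false

universe u

open CategoryTheory CategoryTheory.Limits AlgebraicGeometry Opposite TopologicalSpace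
open Groth.Agent.H06Mod (stalkLin)
attribute [local instance 10000] Groth.Agent.H10Coh.hasSheafifyAb Groth.Agent.H10Coh.hasWeakSheafifyAb Groth.Agent.H10Coh.hasExtAb Groth.Agent.H10Coh.enoughInjAb
attribute [local instance] Abelian.hasFiniteBiproducts

noncomputable section

namespace Groth.Agent.H10Coh.GaetaGen

open H22Alg H22Alg.CMField H10Coh.Gaeta
open Groth.Agent.H11Proj

variable (k : Type u) [Field k]

local notation "U" => Coh.structureModule (P2 k)

theorem acyclic_src (a q : ℕ) : Subsingleton (Coh.HH (P2 k) (src k a) q) := by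
  have h := van_iff.1 (van_sigma (k := k) (b := a) (-2) 0 (q := q) (by omega) (by omega))
  obtain ⟨z⟩ := (CMField.setup k 2).fam.zero
  exact @Equiv.subsingleton _ _ (HHSeq.isoₗ (A := k)
    ((H10Coh.Tw.rightUnitIso (src k a)).symm ≪≫ PicGrp.tensorModIso (Iso.refl _) z.symm) q).toEquiv h

theorem acyclic_mid (b c q : ℕ) : Subsingleton (Coh.HH (P2 k) (mid (k := k) b c) (q + 1)) := by
  have h := van_iff.1 (van_mid (k := k) (b := b) (c := c) 0 (q := q + 1) (by omega) (by omega) (by omega))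
  obtain ⟨z⟩ := (CMField.setup k 2).fam.zero
  exact @Equiv.subsingleton _ _ (HHSeq.isoₗ (A := k)
    ((H10Coh.Tw.rightUnitIso (mid (k := k) b c)).symm ≪≫ PicGrp.tensorModIso (Iso.refl _) z.symm) (q + 1)).toEquiv h

theorem finite_hh {M : (P2 k).Modules} (hM : Coh.IsCoh M) (q : ℕ) : Module.Finite k (Coh.HH (P2 k) M q) := by
  haveI : IsProper (P2 k ↘ Spec (CommRingCat.of k)) := MumfordBound.proper_toSpec (k := k) (n := 2)
  exact H10Coh.finite_HH_proper k (P2 k) M hM q

theorem coh_TQ (Z : (P2 k).IdealSheafData) {M : (P2 k).Modules} (hM : Coh.IsCoh M) : Coh.IsCoh ((TQ k Z).obj M) := by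
  haveI := CMHyper.noetherian k 2
  exact H10Coh.TT.isCoh_tensorMod hM (H25Par.isCoh_quotMod Z)

theorem finrank_hh_sigma {N : ℕ} (F : (P2 k).Modules ⥤ (P2 k).Modules) [PreservesColimitsOfShape (Discrete (Fin N)) F]
    (L : (P2 k).Modules) (hfin : Coh.IsCoh (F.obj L)) :
    Module.finrank k (Coh.HH (P2 k) (F.obj (∐ fun _ : Fin N => L)) 0) =
      N * Module.finrank k (Coh.HH (P2 k) (F.obj L) 0) := by
  let e := PreservesCoproduct.iso F (fun _ : Fin N => L) ≪≫ (biproduct.isoCoproduct fun _ : Fin N => F.obj L).symm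
  rw [(HHSeq.isoₗ (A := k) e 0).finrank_eq]
  refine (H28RR.Clopen.finrank_hh_biproduct (ι := Fin N) k (fun _ => F.obj L) 0 fun _ => finite_hh k hfin 0).trans ?_
  simp

theorem finrank_h0_unit [IsAlgClosed k] : Module.finrank k (Coh.HH (P2 k) U 0) = 1 := by
  obtain ⟨ε⟩ := H17.EdgeIso.nonempty_hom_unit_linearEquiv (X := P2 k) k U
  rw [← ε.finrank_eq]
  refine finrank_eq_one (𝟙 U) (fun h => ?_) fun φ => ?_
  · haveI := integral k
    have h1 := genRank_sum k U H11Proj.isInvertible_structureModule 1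
    have hz : IsZero (∐ fun _ : Fin 1 => U) := (IsZero.iff_id_eq_zero _).2 (Sigma.hom_ext _ _ fun i => by
      rw [Category.comp_id, Limits.comp_zero, ← Category.id_comp (Sigma.ι _ i), h, Limits.zero_comp])
    haveI : Subsingleton ((DerSch.stalkFunctor (P2 k) (genericPoint (P2 k))).obj (∐ fun _ : Fin 1 => U)) :=
      ModuleCat.isZero_iff_subsingleton.1 (Functor.map_isZero _ hz)
    rw [H25Euler.genRank, Module.finrank_zero_of_subsingleton] at h1
    exact zero_ne_one h1
  · obtain ⟨c, hc⟩ := end_scalar_unit φ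
    exact ⟨c, hc.symm⟩

section fixed

variable [IsAlgClosed k] {n : ℕ} (a2 r : ℕ) (α : Fin (n + 1) → k) (hα : Function.Injective α)
  (y : Fin (n + 1) → P2 k) (hy : ∀ j, y j ∈ SepPts.U (k := k) (n := 2) 0)
  (hyα : ∀ j, (P2 k).presheaf.germ (SepPts.U (k := k) (n := 2) 0) (y j) (hy j) (SepPts.t 0 1) - σ k (y j) (α j) ∈
    IsLocalRing.maximalIdeal ((P2 k).presheaf.stalk (y j)))
  (Z : (P2 k).IdealSheafData) (hS : Set.range Z.subschemeι = Set.range y)

/-- Restriction to `Z`. -/
def η (M : (P2 k).Modules) : M ⟶ (TQ k Z).obj M := (zmid k Z M).inv ≫ (zseq k Z M).g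

theorem η_natural {M N : (P2 k).Modules} (f : M ⟶ N) : η k Z M ≫ (TQ k Z).map f = f ≫ η k Z N := by
  have h : (zmid k Z M).inv ≫ (zhom k Z f).τ₂ = f ≫ (zmid k Z N).inv := by
    rw [Iso.inv_comp_eq, ← Category.assoc, Iso.eq_comp_inv]
    exact zhom_τ₂ k Z f
  refine (Category.assoc _ _ _).trans ?_
  refine (congrArg (fun g => (zmid k Z M).inv ≫ g) (zhom k Z f).comm₂₃.symm).trans ?_
  refine (Category.assoc _ _ _).symm.trans ?_
  refine (congrArg (fun g => g ≫ (zseq k Z N).g) h).trans ?_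
  exact Category.assoc _ _ _

include hα hyα hS in
theorem section_zero (v : Coh.HH (P2 k) (mid (k := k) a2 (r * (n + 1))) 0)
    (u : Coh.HH (P2 k) ((TQ k Z).obj (src k (a2 + r * n))) 0)
    (h : Canon.HHlin k (η k Z _) 0 v = Canon.HHlin k ((TQ k Z).map (φline k a2 r n)) 0 u) : v = 0 := by
  let B := mid (k := k) a2 (r * (n + 1))
  let A := src k (a2 + r * n)
  let S := H11Tilde.homOfGlobal B (H29RR.sec B v)
  have hSv : S = 0 := by
    refine section_eq_zero k a2 r n α hα y hy hyα S fun j => ?_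
    have hone : stalkLin S (y j) (one1 k (y j)) = B.presheaf.germ ⊤ (y j) trivial (H29RR.sec B v) := by
      rw [H06Mod.stalkLin_germ]
      exact congrArg (B.presheaf.germ ⊤ (y j) trivial) (homOfGlobal_val (H29RR.sec B v))
    haveI : Epi (zseq k Z A).g := (zseq_shortExact k Z (vb_sum k (a2 + r * n) (-2))).epi_g
    haveI : Epi (η k Z A) := epi_comp' inferInstance this
    obtain ⟨a, ha⟩ := H06Mod.surjective_stalk_of_epi (η k Z A) (y j)
      (((TQ k Z).obj A).presheaf.germ ⊤ (y j) trivial (H29RR.sec _ u))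
    replace ha : stalkLin (η k Z A) (y j) a = ((TQ k Z).obj A).presheaf.germ ⊤ (y j) trivial (H29RR.sec _ u) := ha
    have h1 : stalkLin (η k Z B) (y j) (stalkLin S (y j) (one1 k (y j))) =
        stalkLin (η k Z B) (y j) (stalkLin (φline k a2 r n) (y j) a) := by
      rw [hone, H06Mod.stalkLin_germ, ← H29Omega.stalkLin_comp, ← η_natural, H29Omega.stalkLin_comp, ha,
        H06Mod.stalkLin_germ, ← H29RR.sec_natural (k := k), ← H29RR.sec_natural (k := k), h]
    have h2 : stalkLin (zseq k Z B).g (y j) (stalkLin (zmid k Z B).inv (y j)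
        (stalkLin S (y j) (one1 k (y j)) - stalkLin (φline k a2 r n) (y j) a)) = 0 := by
      rw [← H29Omega.stalkLin_comp]
      show stalkLin (η k Z B) (y j) _ = 0
      rw [map_sub, h1, sub_self]
    have h3 := mem_mM_of_g_zero k Z hS B ⟨j, rfl⟩ _ h2
    rw [← H29Omega.stalkLin_comp, Iso.inv_hom_id, H02CA.Tango.stalkLin_id'] at h3
    rw [show stalkLin S (y j) (one1 k (y j)) = stalkLin (φline k a2 r n) (y j) a +
      (stalkLin S (y j) (one1 k (y j)) - stalkLin (φline k a2 r n) (y j) a) from (add_sub_cancel _ _).symm]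
    exact Submodule.add_mem_sup (LinearMap.mem_range_self _ _) h3
  refine (H29RR.sec B).injective (Eq.trans ?_ (map_zero _).symm)
  rw [← homOfGlobal_val (H29RR.sec B v)]
  show (S.app ⊤) _ = 0
  rw [hSv]
  rfl

include hα hyα hS in
theorem h0_mid_TI : Subsingleton (Coh.HH (P2 k) ((TI k Z).obj (mid (k := k) a2 (r * (n + 1)))) 0) := by
  refine subsingleton_of_forall_eq 0 fun x => ?_
  have hB := zseq_shortExact k Z (vb_mid k a2 (r * (n + 1)))
  haveI := hB.mono_f
  refine H29RR.hhlin_zero_injective (k := k) (zseq k Z _).f ?_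
  refine Eq.trans ?_ (map_zero _).symm
  apply (HHSeq.isoₗ (A := k) (zmid k Z (mid (k := k) a2 (r * (n + 1)))) 0).injective
  rw [map_zero]
  refine section_zero k a2 r α hα y hy hyα Z hS _ 0 ?_
  rw [map_zero]
  show Canon.HHlin k (η k Z _) 0 (Canon.HHlin k (zmid k Z _).hom 0 (Canon.HHlin k (zseq k Z _).f 0 x)) = 0
  rw [← H29RR.hhlin_comp, ← H29RR.hhlin_comp, η, Iso.hom_inv_id_assoc]
  exact (congrArg (fun g => Canon.HHlin k g 0 x) (zseq k Z _).zero).trans (H29RR.hhlin_zero _ _ _ _)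

include hα hyα hS in
theorem injective_L1 : Function.Injective (L1 k Z _ _ (φline k a2 r n)) := by
  have hA := zseq_shortExact k Z (vb_sum k (a2 + r * n) (-2))
  have hB := zseq_shortExact k Z (vb_mid k a2 (r * (n + 1)))
  refine (injective_iff_map_eq_zero _).2 fun x hx => ?_
  obtain ⟨u, rfl⟩ := HHSeq.exists_dl hA 0 x ((subsingleton_zmid k Z (acyclic_src k _ 1)).elim _ _)
  have hd := LeadFF.dl_natural hA hB (zhom k Z (φline k a2 r n)) 0 u
  have h0 : LeadFF.dl hB 0 (LeadFF.Hm (zhom k Z (φline k a2 r n)).τ₃ 0 u) = 0 := hd.trans hx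
  obtain ⟨v', hv'⟩ := LeadFF.exists_Hm_g hB 0 _ h0
  have hv : Canon.HHlin k (zmid k Z (mid (k := k) a2 (r * (n + 1)))).hom 0 v' = 0 := by
    refine section_zero k a2 r α hα y hy hyα Z hS _ u ?_
    rw [← H29RR.hhlin_comp, η, Iso.hom_inv_id_assoc]
    exact hv'
  have hv0 : v' = 0 := (HHSeq.isoₗ (A := k) (zmid k Z _) 0).injective (hv.trans (map_zero _).symm)
  rw [hv0, map_zero] at hv'
  haveI := mono_TQ k Z hS (φline k a2 r n) (by
    rintro _ ⟨j, rfl⟩
    exact splitAt_φline k a2 r n (hy j) (hyα j))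
  have hu : u = 0 := H29RR.hhlin_zero_injective (k := k) ((TQ k Z).map (φline k a2 r n))
    (hv'.symm.trans (map_zero _).symm)
  exact (congrArg _ hu).trans (map_zero _)

include hy hS in
theorem finrank_TQ_O (hfin : Module.finrank k (Coh.HH (P2 k) (ClSub.quotMod Z) 0) = n + 1) :
    Module.finrank k (Coh.HH (P2 k) ((TQ k Z).obj (O k (-2))) 0) = n + 1 ∧
      Module.finrank k (Coh.HH (P2 k) ((TQ k Z).obj (O k (-1))) 0) = n + 1 ∧
      Module.finrank k (Coh.HH (P2 k) ((TQ k Z).obj U) 0) = n + 1 := by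
  have h2 : Module.finrank k (Coh.HH (P2 k) ((TQ k Z).obj U) 0) = n + 1 :=
    ((HHSeq.isoₗ (A := k) ((H28Int.tensorLeftUnitIso (X := P2 k)).app (ClSub.quotMod Z)) 0).finrank_eq).trans hfin
  haveI := isIso_TQ k Z hS (m3 k 0) (by
    rintro _ ⟨j, rfl⟩
    exact bijective_stalk_comp k (bijective_stalk_mu k (-1) (gen_zero_of_mem k (hy j))) (bijective_stalk_iso k _ _))
  have h1 : Module.finrank k (Coh.HH (P2 k) ((TQ k Z).obj (O k (-1))) 0) = n + 1 :=
    ((HHSeq.isoₗ (A := k) (asIso ((TQ k Z).map (m3 k 0))) 0).finrank_eq).trans h2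
  haveI := isIso_TQ k Z hS (m0 k 0) (by
    rintro _ ⟨j, rfl⟩
    exact bijective_m0 k (gen_zero_of_mem k (hy j)))
  exact ⟨((HHSeq.isoₗ (A := k) (asIso ((TQ k Z).map (m0 k 0))) 0).finrank_eq).trans h1, h1, h2⟩

include hy hα hyα hS in
theorem finrank_eq (hfin : Module.finrank k (Coh.HH (P2 k) (ClSub.quotMod Z) 0) = n + 1) :
    Module.finrank k (Coh.HH (P2 k) ((TI k Z).obj (src k (a2 + r * n))) 1) =
      Module.finrank k (Coh.HH (P2 k) ((TI k Z).obj (mid (k := k) a2 (r * (n + 1)))) 1) := by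
  haveI := CMHyper.noetherian k 2
  obtain ⟨h2, h1, h0⟩ := finrank_TQ_O k y hy Z hS hfin
  have cO : ∀ d, Coh.IsCoh (O k d) := fun d => H11Ample.isCoh_of_isInvertible ((setup k 2).fam.inv d)
  have cU : Coh.IsCoh U := H10Coh.isCoh_structureModule' _
  have hA := zseq_shortExact k Z (vb_sum k (a2 + r * n) (-2))
  have hB := zseq_shortExact k Z (vb_mid k a2 (r * (n + 1)))
  have e1 := (LinearEquiv.ofBijective _ (HHSeq.bijective_dlₗ (A := k) hA 0
    (subsingleton_zmid k Z (acyclic_src k _ 0)) (subsingleton_zmid k Z (acyclic_src k _ 1)))).finrank_eq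
  have e2 : Module.finrank k (Coh.HH (P2 k) (zseq k Z (src k (a2 + r * n))).X₃ 0) = (a2 + r * n) * (n + 1) := by
    show Module.finrank k (Coh.HH (P2 k) ((TQ k Z).obj _) 0) = _
    rw [finrank_hh_sigma k (TQ k Z) (O k (-2)) (coh_TQ k Z (cO _)), h2]
  -- the middle term
  have e3 : Module.finrank k (Coh.HH (P2 k) (zseq k Z (mid (k := k) a2 (r * (n + 1)))).X₃ 0) =
      a2 * (n + 1) + r * (n + 1) * (n + 1) := by
    haveI : (TQ k Z).Additive := Functor.additive_of_preserves_binary_products _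
    haveI := finite_hh k (coh_TQ k Z (H16Derived.KFlat.Stalk.isCoh_of_isFinLocFree (vb_sum k a2 (-1)))) 0
    haveI := finite_hh k (coh_TQ k Z (H16Derived.KFlat.Stalk.isCoh_of_isFinLocFree
      (H16Derived.KFlat.Stalk.isFinLocFree_sigma (fun _ : Fin (r * (n + 1)) => U) fun _ => vb_unit k))) 0
    haveI : PreservesBinaryBiproducts (TQ k Z) := preservesBinaryBiproducts_of_preservesBiproducts _
    let e := (TQ k Z).mapBiprod (∐ fun _ : Fin a2 => O k (-1)) (∐ fun _ : Fin (r * (n + 1)) => U)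
    refine ((HHSeq.isoₗ (A := k) e 0).finrank_eq).trans ?_
    rw [H29RR.finrank_hh_biprod, finrank_hh_sigma k (TQ k Z) (O k (-1)) (coh_TQ k Z (cO _)),
      finrank_hh_sigma k (TQ k Z) U (coh_TQ k Z cU), h1, h0]
  have e4 : Module.finrank k (Coh.HH (P2 k) (zseq k Z (mid (k := k) a2 (r * (n + 1)))).X₂ 0) = r * (n + 1) := by
    refine ((HHSeq.isoₗ (A := k) (zmid k Z _) 0).finrank_eq).trans ?_
    haveI := finite_hh k (H16Derived.KFlat.Stalk.isCoh_of_isFinLocFree (vb_sum k a2 (-1))) 0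
    haveI := finite_hh k (H16Derived.KFlat.Stalk.isCoh_of_isFinLocFree
      (H16Derived.KFlat.Stalk.isFinLocFree_sigma (fun _ : Fin (r * (n + 1)) => U) fun _ => vb_unit k)) 0
    have s1 := finrank_hh_sigma k (N := a2) (𝟭 _) (O k (-1)) (cO _)
    have s2 := finrank_hh_sigma k (N := r * (n + 1)) (𝟭 _) U cU
    simp only [Functor.id_obj, finrank_h0_unit, mul_one] at s1 s2
    rw [H29RR.finrank_hh_biprod, s1, s2]
    have hz : Subsingleton (Coh.HH (P2 k) (O k (-1)) 0) :=
      H10Coh.Pn.subsingleton_HH_Od (R := k) 0 (by omega) (by omega)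
    haveI := hz
    rw [Module.finrank_zero_of_subsingleton (R := k) (M := Coh.HH (P2 k) (O k (-1)) 0)]
    simp
  haveI := finite_hh k (coh_TQ k Z (coh_mid k a2 (r * (n + 1)))) 0
  haveI : Module.Finite k (Coh.HH (P2 k) (zseq k Z (mid (k := k) a2 (r * (n + 1)))).X₃ 0) := ‹_›
  have hsurj : Function.Surjective (HHSeq.dlₗ (A := k) hB 0) := fun z =>
    HHSeq.exists_dl hB 0 z ((subsingleton_zmid k Z (acyclic_mid k a2 (r * (n + 1)) 0)).elim _ _)
  have hrn := LinearMap.finrank_range_add_finrank_ker (HHSeq.dlₗ (A := k) hB 0)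
  have hgi : Function.Injective (Hyper.Hmₗ (F := k) (zseq k Z (mid (k := k) a2 (r * (n + 1)))).g 0) := by
    refine (injective_iff_map_eq_zero _).2 fun w hw => ?_
    obtain ⟨w', rfl⟩ := LeadFF.exists_Hm_f hB 0 w hw
    exact (congrArg _ (@Subsingleton.elim _ (h0_mid_TI k a2 r α hα y hy hyα Z hS) w' 0)).trans (map_zero _)
  rw [LinearMap.range_eq_top.2 hsurj, finrank_top, ← Hyper.range_Hmₗ hB 0,
    LinearMap.finrank_range_of_inj hgi, e3, e4] at hrn
  refine (e1.symm.trans e2).trans ?_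
  have hfinal : (a2 + r * n) * (n + 1) + r * (n + 1) = a2 * (n + 1) + r * (n + 1) * (n + 1) := by ring
  exact Nat.add_right_cancel (hfinal.trans hrn.symm)

end fixed

/-- For general maps the twist by the ideal of some set of points is acyclic. -/
theorem pointsVanishing [IsAlgClosed k] [CharZero k] (a2 r n : ℕ) :
    ∃ (m : ℕ) (e : (src k (a2 + r * n) ⟶ mid (k := k) a2 (r * (n + 1))) ≃ₗ[k] (Fin m → k))
      (p : MvPolynomial (Fin m) k), p ≠ 0 ∧
      ∀ φ : src k (a2 + r * n) ⟶ mid (k := k) a2 (r * (n + 1)), MvPolynomial.eval (e φ) p ≠ 0 →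
        Mono φ ∧ ∃ Z : (P2 k).IdealSheafData, IsReduced Z.subscheme ∧ Nat.card ↥Z.subscheme = n + 1 ∧
          ∀ i : ℕ, Subsingleton (Coh.HH (P2 k) (CohB1.tensorMod (cokernel φ) (ClSub.idealMod Z)) i) := by
  classical
  haveI := CMHyper.noetherian k 2
  let α : Fin (n + 1) → k := fun j => (j.1 : k)
  have hα : Function.Injective α := fun i j h => Fin.ext (Nat.cast_injective h)
  choose y hy hyc hyα using fun j => exists_point_line k (α j)
  have hyi : Function.Injective y := fun i j h => hα (eq_of_line k (hy i) (hyα i) (by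
    have := hyα j
    revert this
    generalize hy j = hj
    revert hj
    rw [← h]
    exact fun _ => id))
  have hclosed : IsClosed (Set.range y) := by
    rw [← Set.iUnion_singleton_eq_range]
    exact isClosed_iUnion_of_finite hyc
  let Z := Scheme.IdealSheafData.vanishingIdeal (X := P2 k) ⟨Set.range y, hclosed⟩
  have hS : Set.range Z.subschemeι = Set.range y := H17.range_vanishingIdeal_subschemeι ⟨Set.range y, hclosed⟩
  have hred : IsReduced Z.subscheme := H17.isReduced_vanishingIdeal_subscheme _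
  have hcard : Nat.card (Set.range y) = n + 1 := by rw [Nat.card_range_of_injective hyi, Nat.card_fin]
  have hq := (finrank_quot k Z hS (Set.finite_range y) hred).trans hcard
  have hZcard : Nat.card Z.subscheme = n + 1 :=
    (Nat.card_congr ((Equiv.ofInjective _ Z.subschemeι.isClosedEmbedding.injective).trans (Equiv.setCongr hS))).trans hcard
  let A := src k (a2 + r * n)
  let B := mid (k := k) a2 (r * (n + 1))
  have hdim := finrank_eq k a2 r α hα y hy hyα Z hS hq
  have hIc : Coh.IsCoh (ClSub.idealMod Z) := H10Coh.isCoh_kernel _ (H10Coh.isCoh_structureModule' _)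
    (H25Par.isCoh_quotMod Z).1
  haveI := finite_hh k (H10Coh.TT.isCoh_tensorMod (coh_src k (a2 + r * n)) hIc) 1
  haveI := finite_hh k (H10Coh.TT.isCoh_tensorMod (coh_mid k a2 (r * (n + 1))) hIc) 1
  haveI : Module.Finite k (Coh.HH (P2 k) ((TI k Z).obj A) 1) := ‹_›
  haveI : Module.Finite k (Coh.HH (P2 k) ((TI k Z).obj B) 1) := ‹_›
  obtain ⟨m, ⟨e⟩⟩ := exists_coord k (a2 + r * n) a2 (r * (n + 1))
  obtain ⟨p₁, hp₁, hp₁'⟩ := exists_poly_mono k _ _ _ (by rw [Nat.mul_succ]; omega) e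
  obtain ⟨p₂, hp₂, hp₂'⟩ := exists_poly_surjective e (L1 k Z A B) (φline k a2 r n)
    ((LinearMap.injective_iff_surjective_of_finrank_eq_finrank hdim).1 (injective_L1 k a2 r α hα y hy hyα Z hS))
  refine ⟨m, e, p₁ * p₂, mul_ne_zero hp₁ hp₂, fun φ hφ => ?_⟩
  rw [map_mul] at hφ
  haveI := hp₁' φ (left_ne_zero_of_mul hφ)
  have hs := hp₂' φ (right_ne_zero_of_mul hφ)
  have hb : Function.Bijective (L1 k Z A B φ) :=
    ⟨(LinearMap.injective_iff_surjective_of_finrank_eq_finrank hdim).2 hs, hs⟩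
  have hpts : ∀ z ∈ Set.range y, IsClosed ({z} : Set (P2 k)) := by rintro _ ⟨j, rfl⟩; exact hyc j
  refine ⟨inferInstance, Z, hred, hZcard, vanishing k Z (vb_sum k _ (-2)) φ (h0_mid_TI k a2 r α hα y hy hyα Z hS)
    (fun q => ?_) (fun q => ?_) hb⟩
  · exact HHSeq.subsingleton₁ (zseq_shortExact k Z (vb_sum k _ (-2)))
      (subsingleton_HH_TQ k Z hS hpts (coh_TQ k Z (coh_src k _)) q) (subsingleton_zmid k Z (acyclic_src k _ (q + 2)))
  · exact HHSeq.subsingleton₁ (zseq_shortExact k Z (vb_mid k _ _))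
      (subsingleton_HH_TQ k Z hS hpts (coh_TQ k Z (coh_mid k _ _)) q) (subsingleton_zmid k Z (acyclic_mid k _ _ (q + 1)))

end Groth.Agent.H10Coh.GaetaGen
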