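import Groth.Agent.H10Coh.Gaeta.Main
import Mathlib.LinearAlgebra.Matrix.ToLin
import Mathlib.RingTheory.MvPolynomial.Basic

/-! # Surjectivity is a polynomial condition -/

set_option autoImplicit false
set_option backward.isDefEq.respectTransparency.types false
set_option linter.style.haveILetI false
set_option linter.unusedSectionVars false

universe u

open CategoryTheory CategoryTheory.Limits AlgebraicGeometry Opposite
attribute [local instance 10000] Groth.Agent.H10Coh.hasSheafifyAb Groth.Agent.H10Coh.hasWeakSheafifyAb Groth.Agent.H10Coh.hasExtAb Groth.Agent.H10Coh.enoughInjAb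
attribute [local instance] Abelian.hasFiniteBiproducts

noncomputable section

namespace Groth.Agent.H10Coh.GaetaGen

open H22Alg H22Alg.CMField H10Coh.Gaeta

/-- Surjectivity of a linear family of linear maps is a polynomial condition. -/
theorem exists_poly_surjective {k V U W : Type*} [Field k] [AddCommGroup V] [Module k V] [AddCommGroup U] [Module k U]
    [AddCommGroup W] [Module k W] [FiniteDimensional k W] {m : ℕ} (c : V ≃ₗ[k] (Fin m → k))
    (L : V →ₗ[k] U →ₗ[k] W) (v₀ : V) (h : Function.Surjective (L v₀)) :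
    ∃ p : MvPolynomial (Fin m) k, p ≠ 0 ∧ ∀ v, MvPolynomial.eval (c v) p ≠ 0 → Function.Surjective (L v) := by
  classical
  obtain ⟨r, hr⟩ := LinearMap.exists_rightInverse_of_surjective (L v₀) (LinearMap.range_eq_top.2 h)
  let b := Module.finBasis k W
  let A : Fin m → Matrix (Fin (Module.finrank k W)) (Fin (Module.finrank k W)) k := fun i =>
    LinearMap.toMatrix b b (L (c.symm (Pi.single i 1)) ∘ₗ r)
  let p : MvPolynomial (Fin m) k :=
    (∑ i : Fin m, (MvPolynomial.X i : MvPolynomial (Fin m) k) • (A i).map (fun a : k => MvPolynomial.C (σ := Fin m) a)).det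
  have hp : ∀ v, MvPolynomial.eval (c v) p = (LinearMap.toMatrix b b (L v ∘ₗ r)).det := by
    intro v
    rw [RingHom.map_det]
    congr 1
    have hv : v = ∑ i, c v i • c.symm (Pi.single i 1) := by
      refine c.injective ?_
      rw [map_sum]
      simp only [map_smul, LinearEquiv.apply_symm_apply]
      exact pi_eq_sum_univ' (c v)
    ext a a'
    conv_rhs => rw [hv]
    simp [A, Matrix.sum_apply, LinearMap.toMatrix_apply, LinearMap.sum_apply]
  refine ⟨p, fun h0 => ?_, fun v hv w => ?_⟩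
  · have := hp v₀
    rw [hr, LinearMap.toMatrix_id, Matrix.det_one, h0, map_zero] at this
    exact zero_ne_one this
  · rw [hp] at hv
    have hu : IsUnit (LinearMap.det (L v ∘ₗ r)) := by
      rw [← LinearMap.det_toMatrix b]; exact isUnit_iff_ne_zero.2 hv
    obtain ⟨u, hu'⟩ := (Module.End.isUnit_iff _).1 ((LinearMap.isUnit_iff_isUnit_det _).2 hu) |>.2 w
    exact ⟨r u, hu'⟩

variable {k : Type u} [Field k]

theorem exists_lift' {S : ShortComplex (P2 k).Modules} (hS : S.ShortExact) (t : ℤ)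
    (h₁ : Van 1 (CohB1.tensorMod S.X₁ (O k t))) (g : O k (-t) ⟶ S.X₃) : ∃ g' : O k (-t) ⟶ S.X₂, g' ≫ S.g = g := by
  haveI := (CMField.setup k 2).fam.inv t
  let u : Coh.structureModule (P2 k) ≅ (G k t).obj (O k (-t)) := unitIso (-t) ≪≫ eqToIso (by rw [neg_neg])
  obtain ⟨l, hl⟩ := exists_lift (H10Coh.Tw.shortExact_seq hS ((CMField.setup k 2).fam.inv t)) (van_iff.1 h₁)
    (u.hom ≫ (G k t).map g)
  obtain ⟨g', hg'⟩ := (G k t).map_surjective (u.inv ≫ l)
  refine ⟨g', (G k t).map_injective ?_⟩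
  rw [Functor.map_comp, hg', ← cancel_epi u.hom, ← Category.assoc, Iso.hom_inv_id_assoc]
  exact hl

/-- An epimorphism in a linear family gives epimorphisms outside a hypersurface. -/
theorem exists_poly_epi {V : Type*} [AddCommGroup V] [Module k V] {m : ℕ} (c : V ≃ₗ[k] (Fin m → k))
    {S T : (P2 k).Modules} (hS : Coh.IsCoh S) (hT : Coh.IsCoh T) (F : V →ₗ[k] (S ⟶ T)) (v₀ : V) (h : Epi (F v₀)) :
    ∃ p : MvPolynomial (Fin m) k, p ≠ 0 ∧ ∀ v, MvPolynomial.eval (c v) p ≠ 0 → Epi (F v) := by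
  haveI : IsProper (P2 k ↘ Spec (CommRingCat.of k)) := MumfordBound.proper_toSpec (k := k) (n := 2)
  haveI := CMHyper.noetherian k 2
  haveI := h
  have hK : Coh.IsCoh (kernel (F v₀)) := H10Coh.isCoh_kernel _ hS hT.1
  obtain ⟨a, ha⟩ := CMHyper.exists_van hK
  obtain ⟨b, hb⟩ := CMHyper.exists_van hT
  let t := max a (b + 2)
  have hreg : Reg (fun d => O k d) T t := fun i hi => by
    by_cases h2 : i ≤ 2
    · exact hb _ (by omega) i hi
    · exact van_high k 2 (by omega) (H11Ample.isCoh_tensor hT ((setup k 2).fam.inv _)).1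
  haveI : Module.Finite k (O k (-t) ⟶ T) :=
    H29RR.finite_hom (H11Ample.isCoh_of_isInvertible ((setup k 2).fam.inv (-t))) hT
  let comp : (S ⟶ T) →ₗ[k] (O k (-t) ⟶ S) →ₗ[k] (O k (-t) ⟶ T) :=
    LinearMap.flip (CategoryTheory.Linear.comp (O k (-t)) S T : (O k (-t) ⟶ S) →ₗ[k] (S ⟶ T) →ₗ[k] (O k (-t) ⟶ T))
  have hS0 : (ShortComplex.mk (kernel.ι (F v₀)) (F v₀) (kernel.condition _)).ShortExact :=
    { exact := ShortComplex.exact_kernel _ }
  obtain ⟨p, hp, hp'⟩ := exists_poly_surjective c (comp ∘ₗ F) v₀ fun g =>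
    exists_lift' hS0 t (ha t (le_max_left _ _) 1 le_rfl) g
  refine ⟨p, hp, fun v hv => ?_⟩
  obtain ⟨n, φ, hφ, -⟩ := CMStep.exists_step hT hreg
  choose g hg using fun i : Fin n => hp' v hv (Sigma.ι (fun _ : Fin n => O k (-t)) i ≫ φ)
  have hfac : Sigma.desc g ≫ F v = φ := Sigma.hom_ext _ _ fun i => by
    rw [Sigma.ι_desc_assoc]; exact hg i
  haveI : Epi (Sigma.desc g ≫ F v) := hfac ▸ hφ
  exact epi_of_epi (Sigma.desc g) (F v)

end Groth.Agent.H10Coh.GaetaGen
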