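import Groth.Agent.H29Fitt.FreeLocal
import Groth.Agent.H25Par.Rank
import Groth.Agent.H29Omega.ConormalStalk
import Groth.Agent.H02CA.Tango.StalkSum

/-! # Rank drop of block-triangular maps -/

set_option autoImplicit false
set_option backward.isDefEq.respectTransparency.types false
set_option linter.style.haveILetI false

universe u

open CategoryTheory CategoryTheory.Limits AlgebraicGeometry Opposite TopologicalSpace
open Groth.Agent.H06Mod (stalkLin)

noncomputable section

namespace Groth.Agent.H10Coh.GaetaGen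

variable {Y : Scheme.{u}}

/-- Germs of local generators span the stalk. -/
theorem span_germs_of_spansUpTo (F : Y.Modules) (hF : Coh.IsQCoh F) {U : Y.Opens} (hU : IsAffineOpen U)
    {n : ℕ} {f : Γ(Y, U)} {m : Fin n → Γ(F, U)} (hm : H29Fitt.SpansUpTo (Submonoid.powers f) m)
    {x : Y} (hx : x ∈ Y.basicOpen f) :
    Submodule.span (Y.presheaf.stalk x)
      (Set.range fun j => F.presheaf.germ U x (Y.basicOpen_le f hx) (m j)) = ⊤ := by
  refine Submodule.eq_top_iff'.2 fun z => ?_
  obtain ⟨V, hxV, t, rfl⟩ := F.presheaf.exists_germ_eq z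
  obtain ⟨g, hgV, hxg⟩ := hU.exists_basicOpen_le (V := V ⊓ Y.basicOpen f) ⟨x, hxV, hx⟩ (Y.basicOpen_le f hx)
  have h := H29Fitt.span_basicOpen_of_spansUpTo F hF hU hm (hgV.trans inf_le_right)
  obtain ⟨c, hc⟩ := (Submodule.mem_span_range_iff_exists_fun _).1
    (h.ge (Submodule.mem_top (x := F.presheaf.map (homOfLE (hgV.trans inf_le_left)).op t)))
  have hg := congrArg (F.presheaf.germ (Y.basicOpen g) x hxg) hc
  rw [map_sum, TopCat.Presheaf.germ_res_apply] at hg
  rw [← hg]
  refine Submodule.sum_mem _ fun j _ => ?_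
  erw [H06Mod.germ_smul]
  refine Submodule.smul_mem _ _ (Submodule.subset_span ⟨j, ?_⟩)
  exact (TopCat.Presheaf.germ_res_apply F.presheaf _ _ _ _).symm

/-- A map sending the second summand into the second summand drops rank everywhere if the latter is
of smaller rank. -/
theorem support_cokernel_eq_univ [IsLocallyNoetherian Y] {A₁ A₂ B₁ B₂ : Y.Modules} {a₁ b₁ b₂ : ℕ}
    (hA₁ : FlatMod.IsFinLocFreeOfRank a₁ A₁) (hB₁ : FlatMod.IsFinLocFreeOfRank b₁ B₁)
    (hB₂ : FlatMod.IsFinLocFreeOfRank b₂ B₂)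
    (φ : (A₁ ⊞ A₂) ⟶ (B₁ ⊞ B₂)) (hc : Coh.IsQCoh (cokernel φ)) (hft : CohB1.IsFT (cokernel φ))
    (h₂₁ : biprod.inr ≫ φ ≫ biprod.fst = 0) (r : ℕ) (hr : a₁ + b₂ + r < b₁ + b₂) :
    ((Fitt.sheafIdeal (cokernel φ) r).support : Set Y) = Set.univ := by
  refine Set.eq_univ_iff_forall.2 fun x => ?_
  by_contra hx
  obtain ⟨U, hU, f, m, hxf, hm⟩ := H29Fitt.exists_generators_of_not_mem_support _ hc hft x hx
  have hspan := span_germs_of_spansUpTo _ hc hU hm hxf
  let R : Type u := ↥(Y.presheaf.stalk x)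
  obtain ⟨hf1, hfin1, hr1⟩ := H25Par.finrank_stalk hA₁ x
  obtain ⟨hg1, hgfin1, hs1⟩ := H25Par.finrank_stalk hB₁ x
  obtain ⟨hg2, hgfin2, hs2⟩ := H25Par.finrank_stalk hB₂ x
  -- the stalk of `B`
  let eB : (B₁ ⊞ B₂ : Y.Modules).presheaf.stalk x ≃ₗ[R] B₁.presheaf.stalk x × B₂.presheaf.stalk x :=
    LinearEquiv.ofLinearMap
      ((stalkLin (biprod.fst : B₁ ⊞ B₂ ⟶ B₁) x).prod (stalkLin (biprod.snd : B₁ ⊞ B₂ ⟶ B₂) x))
      ((stalkLin (biprod.inl : B₁ ⟶ B₁ ⊞ B₂) x).coprod (stalkLin (biprod.inr : B₂ ⟶ B₁ ⊞ B₂) x))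
      (LinearMap.ext fun p => by
        simp only [LinearMap.coe_comp, Function.comp_apply, LinearMap.coprod_apply, map_add, LinearMap.prod_apply,
          Function.prod, LinearMap.id_coe, id_eq, Prod.mk_add_mk, ← H29Omega.stalkLin_comp, biprod.inl_fst,
          biprod.inr_fst, biprod.inl_snd, biprod.inr_snd, H02CA.Tango.stalkLin_id', H02CA.Tango.stalkLin_zero,
          LinearMap.zero_apply, add_zero, zero_add])
      (LinearMap.ext fun v => by
        simp only [LinearMap.coe_comp, Function.comp_apply, LinearMap.coprod_apply, LinearMap.prod_apply,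
          Function.prod, LinearMap.id_coe, id_eq, ← H29Omega.stalkLin_comp]
        rw [← LinearMap.add_apply, ← H02CA.Tango.stalkLin_add, biprod.total, H02CA.Tango.stalkLin_id'])
  -- a spanning family
  let bA := Module.finBasisOfFinrankEq R (A₁.presheaf.stalk x) hr1
  let bB := Module.finBasisOfFinrankEq R (B₂.presheaf.stalk x) hs2
  let St := DerSch.stalkFunctor Y x
  have hsurj : Function.Surjective (stalkLin (cokernel.π φ) x) := by
    haveI : Epi (St.map (cokernel.π φ)) := inferInstance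
    exact (ModuleCat.epi_iff_surjective (St.map (cokernel.π φ))).1 inferInstance
  choose l hl using fun j => hsurj ((cokernel φ).presheaf.germ U x (Y.basicOpen_le f hxf) (m j))
  let v : Fin a₁ ⊕ Fin b₂ ⊕ Fin r → (B₁ ⊞ B₂ : Y.Modules).presheaf.stalk x :=
    Sum.elim (fun i => stalkLin φ x (stalkLin (biprod.inl : A₁ ⟶ A₁ ⊞ A₂) x (bA i)))
      (Sum.elim (fun i => stalkLin (biprod.inr : B₂ ⟶ B₁ ⊞ B₂) x (bB i)) l)
  let P := Submodule.span R (Set.range v)
  have hphi : ∀ a, stalkLin φ x a ∈ P := by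
    intro a
    rw [← H02CA.Tango.stalkLin_id' (M := A₁ ⊞ A₂) x a, ← biprod.total, H02CA.Tango.stalkLin_add, LinearMap.add_apply,
      map_add]
    refine P.add_mem ?_ ?_
    · rw [H29Omega.stalkLin_comp, ← bA.sum_repr (stalkLin biprod.fst x a)]
      simp only [map_sum, map_smul]
      exact P.sum_mem fun i _ => P.smul_mem _ (Submodule.subset_span ⟨Sum.inl i, rfl⟩)
    · have h1 : (biprod.inr : A₂ ⟶ A₁ ⊞ A₂) ≫ φ = (biprod.inr ≫ φ ≫ biprod.snd) ≫ biprod.inr := by
        apply biprod.hom_ext <;> simp [h₂₁]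
      rw [H29Omega.stalkLin_comp, ← H29Omega.stalkLin_comp _ φ, h1, H29Omega.stalkLin_comp,
        ← bB.sum_repr (stalkLin (biprod.inr ≫ φ ≫ biprod.snd) x _)]
      simp only [map_sum, map_smul]
      exact P.sum_mem fun i _ => P.smul_mem _ (Submodule.subset_span ⟨Sum.inr (Sum.inl i), rfl⟩)
  have htop : P = ⊤ := by
    refine Submodule.eq_top_iff'.2 fun b => ?_
    obtain ⟨c, hc'⟩ := (Submodule.mem_span_range_iff_exists_fun _).1
      (hspan.ge (Submodule.mem_top (x := stalkLin (cokernel.π φ) x b)))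
    have h0 : stalkLin (cokernel.π φ) x (b - ∑ j, c j • l j) = 0 := by
      rw [map_sub, map_sum]
      simp only [map_smul, hl]
      rw [hc', sub_self]
    obtain ⟨a, ha⟩ := (ShortComplex.moduleCat_exact_iff _).1
      (((ShortComplex.mk φ (cokernel.π φ) (cokernel.condition φ)).exact_of_g_is_cokernel
        (cokernelIsCokernel φ)).map St) _ h0
    replace ha : stalkLin φ x a = b - ∑ j, c j • l j := ha
    rw [← sub_add_cancel b (∑ j, c j • l j), ← ha]
    exact P.add_mem (hphi a) (P.sum_mem fun j _ =>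
      P.smul_mem _ (Submodule.subset_span ⟨Sum.inr (Sum.inr j), rfl⟩))
  have h := finrank_range_le_card (R := R) v
  rw [Set.finrank, show Submodule.span R (Set.range v) = ⊤ from htop, finrank_top, eB.finrank_eq,
    Module.finrank_prod, hs1, hs2, Fintype.card_sum, Fintype.card_sum, Fintype.card_fin, Fintype.card_fin,
    Fintype.card_fin] at h
  omega

end Groth.Agent.H10Coh.GaetaGen
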