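import Groth.Prelude.Def_KLin
import Groth.Agent.H3Cyc.DualFilt
import Groth.Agent.H23KS.DualSum
import Groth.Agent.H02CA.Tango.StalkSum
import Groth.Agent.H25Par.Rank
import Groth.Agent.H22Alg.NegTwist

/-! # Split injectivity on stalks and duals -/

set_option autoImplicit false
set_option backward.isDefEq.respectTransparency.types false
set_option linter.style.haveILetI false
set_option linter.unusedSectionVars false

universe u

open CategoryTheory CategoryTheory.Limits AlgebraicGeometry Opposite
open Groth.Agent.H06Mod (stalkLin)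

noncomputable section

namespace Groth.Agent.H10Coh.GaetaGen

variable {X : Scheme.{u}}

/-- The stalk map at `x` has a left inverse. -/
def SplitAt {A B : X.Modules} (φ : A ⟶ B) (x : X) : Prop :=
  ∃ r : B.presheaf.stalk x →ₗ[X.presheaf.stalk x] A.presheaf.stalk x, r ∘ₗ stalkLin φ x = LinearMap.id

theorem SplitAt.injective {A B : X.Modules} {φ : A ⟶ B} {x : X} (h : SplitAt φ x) :
    Function.Injective (stalkLin φ x) := by
  obtain ⟨r, hr⟩ := h
  exact Function.LeftInverse.injective (g := r) fun v => LinearMap.congr_fun hr v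

theorem surjective_dual_of_splitAt {A B : X.Modules} (hA : CohB1.IsFP A) (hB : CohB1.IsFP B) {φ : A ⟶ B} {x : X}
    (h : SplitAt φ x) : Function.Surjective (stalkLin (RefFun.dualMap φ) x) := by
  obtain ⟨r, hr⟩ := h
  intro θ
  refine ⟨(H29Ref.dualEquiv B hB x).symm ((H29Ref.dualEquiv A hA x θ).comp r), ?_⟩
  refine (H29Ref.dualEquiv A hA x).injective ?_
  rw [H3Cyc.Filt.dualEquiv_dualMap hA hB, LinearEquiv.apply_symm_apply, LinearMap.comp_assoc, hr, LinearMap.comp_id]

theorem splitAt_of_surjective_dual {A B : X.Modules} (hA : FlatMod.IsFinLocFree A) (hB : CohB1.IsFP B)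
    {φ : A ⟶ B} {x : X} (h : Function.Surjective (stalkLin (RefFun.dualMap φ) x)) : SplitAt φ x := by
  have hA' := H3Cyc.Filt.isFP A hA
  obtain ⟨n, ⟨b⟩⟩ := H22Alg.KExists.stalk_free hA x
  choose θ hθ using fun l : Fin n => h ((H29Ref.dualEquiv A hA' x).symm (b.coord l))
  refine ⟨∑ l, (H29Ref.dualEquiv B hB x (θ l)).smulRight (b l), LinearMap.ext fun v => ?_⟩
  have hl : ∀ l, H29Ref.dualEquiv B hB x (θ l) (stalkLin φ x v) = b.coord l v := fun l => by
    have e := H3Cyc.Filt.dualEquiv_dualMap hA' hB φ x (θ l)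
    rw [hθ, LinearEquiv.apply_symm_apply] at e
    exact (LinearMap.congr_fun e v).symm
  simp only [LinearMap.comp_apply, LinearMap.sum_apply, LinearMap.smulRight_apply, hl, LinearMap.id_apply]
  exact b.sum_repr v

theorem splitAt_dualMap {M N : X.Modules} (hM : CohB1.IsFP M) (hN : FlatMod.IsFinLocFree N) {χ : M ⟶ N} {x : X}
    (h : Function.Surjective (stalkLin χ x)) : SplitAt (RefFun.dualMap χ) x := by
  have hN' := H3Cyc.Filt.isFP N hN
  obtain ⟨n, ⟨b⟩⟩ := H22Alg.KExists.stalk_free hN x
  haveI := Module.Free.of_basis b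
  obtain ⟨σ, hσ⟩ := Module.projective_lifting_property (stalkLin χ x) LinearMap.id h
  refine ⟨(H29Ref.dualEquiv N hN' x).symm.toLinearMap ∘ₗ (σ.dualMap ∘ₗ (H29Ref.dualEquiv M hM x).toLinearMap),
    LinearMap.ext fun η => ?_⟩
  simp only [LinearMap.comp_apply, LinearMap.id_apply, LinearEquiv.coe_coe]
  rw [H3Cyc.Filt.dualEquiv_dualMap hM hN']
  refine (H29Ref.dualEquiv N hN' x).injective ?_
  rw [LinearEquiv.apply_symm_apply, LinearMap.dualMap_apply', LinearMap.comp_assoc, hσ, LinearMap.comp_id]

theorem SplitAt.comp_iso {A B C : X.Modules} {φ : A ⟶ B} {x : X} (h : SplitAt φ x) (e : B ≅ C) :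
    SplitAt (φ ≫ e.hom) x := by
  obtain ⟨r, hr⟩ := h
  refine ⟨r ∘ₗ stalkLin e.inv x, LinearMap.ext fun v => ?_⟩
  rw [LinearMap.comp_apply, LinearMap.comp_apply, ← H29Omega.stalkLin_comp, Category.assoc, e.hom_inv_id,
    Category.comp_id]
  exact LinearMap.congr_fun hr v

theorem SplitAt.iso_comp {A B C : X.Modules} {φ : B ⟶ C} {x : X} (h : SplitAt φ x) (e : A ≅ B) :
    SplitAt (e.hom ≫ φ) x := by
  obtain ⟨r, hr⟩ := h
  refine ⟨stalkLin e.inv x ∘ₗ r, LinearMap.ext fun v => ?_⟩
  rw [LinearMap.comp_apply, LinearMap.comp_apply, H29Omega.stalkLin_comp]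
  refine (congrArg (stalkLin e.inv x) (LinearMap.congr_fun hr _)).trans ?_
  rw [LinearMap.id_apply, ← H29Omega.stalkLin_comp, e.hom_inv_id]
  exact H02CA.Tango.stalkLin_id' x v

/-- The cokernel of a stalkwise split map between locally free modules is free at the point. -/
theorem free_stalk_cokernel [IsLocallyNoetherian X] {A B : X.Modules} (hB : FlatMod.IsFinLocFree B)
    {φ : A ⟶ B} {x : X} (h : SplitAt φ x) :
    Module.Free (X.presheaf.stalk x) ((cokernel φ).presheaf.stalk x) := by
  obtain ⟨r, hr⟩ := h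
  obtain ⟨n, ⟨b⟩⟩ := H22Alg.KExists.stalk_free hB x
  haveI := Module.Free.of_basis b
  haveI := Module.Finite.of_basis b
  let π := stalkLin (cokernel.π φ) x
  have hπ : Function.Surjective π := H06Mod.surjective_stalk_of_epi _ x
  haveI : Module.Finite (X.presheaf.stalk x) ((cokernel φ).presheaf.stalk x) := Module.Finite.of_surjective π hπ
  let d : B.presheaf.stalk x →ₗ[X.presheaf.stalk x] B.presheaf.stalk x := LinearMap.id - stalkLin φ x ∘ₗ r
  have hker : LinearMap.ker π ≤ LinearMap.ker d := fun v hv => by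
    obtain ⟨a, ha⟩ := (ShortComplex.moduleCat_exact_iff _).1
      ((ShortComplex.exact_cokernel φ).map (DerSch.stalkFunctor X x)) v hv
    replace ha : stalkLin φ x a = v := ha
    subst ha
    have ha : r (stalkLin φ x a) = a := LinearMap.congr_fun hr a
    simp [d, ha]
  let s := (LinearMap.ker π).liftQ d hker ∘ₗ (π.quotKerEquivOfSurjective hπ).symm.toLinearMap
  have hs : π ∘ₗ s = LinearMap.id := LinearMap.ext fun c => by
    obtain ⟨v, rfl⟩ := hπ c
    have hq : (π.quotKerEquivOfSurjective hπ).symm (π v) = Submodule.Quotient.mk v :=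
      (LinearEquiv.symm_apply_eq _).2 rfl
    have h0 : π (stalkLin φ x (r v)) = 0 := by
      show stalkLin (cokernel.π φ) x (stalkLin φ x (r v)) = 0
      rw [← H29Omega.stalkLin_comp, cokernel.condition, H02CA.Tango.stalkLin_zero]
      rfl
    simp [s, hq, d, h0]
  haveI : Module.Projective (X.presheaf.stalk x) ((cokernel φ).presheaf.stalk x) :=
    Module.Projective.of_split s π hs
  haveI : Module.FinitePresentation (X.presheaf.stalk x) ((cokernel φ).presheaf.stalk x) :=
    Module.finitePresentation_of_projective _ _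
  exact Module.free_of_flat_of_isLocalRing

/-- Over an integral scheme a map out of a locally free module is injective if it is so at one point. -/
theorem mono_of_injective_at [IsIntegral X] [IsLocallyNoetherian X] {A B : X.Modules} (hA : FlatMod.IsFinLocFree A)
    (hB : Coh.IsQCoh B) (φ : A ⟶ B) {x₀ : X} (h : Function.Injective (stalkLin φ x₀)) : Mono φ := by
  have hAc := H16Derived.KFlat.Stalk.isCoh_of_isFinLocFree hA
  have hAt := H25Par.isTorsionFree_of_locFree hA
  have hK : Coh.IsCoh (kernel φ) := H10Coh.isCoh_kernel φ hAc hB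
  have h0 : x₀ ∉ CohB1.support (kernel φ) := by
    refine (H25Euler.notMem_support_iff _ _).2 ?_
    haveI : Subsingleton ((kernel φ).presheaf.stalk x₀) := subsingleton_of_forall_eq 0 fun v => by
      refine H29Omega.stalkLin_injective_of_mono (kernel.ι φ) x₀ (h ?_)
      rw [map_zero, map_zero, ← H29Omega.stalkLin_comp, kernel.condition, H02CA.Tango.stalkLin_zero]
      rfl
    exact @ModuleCat.isZero_of_subsingleton _ _ ((DerSch.stalkFunctor X x₀).obj (kernel φ)) this
  have hη : genericPoint X ∉ CohB1.support (kernel φ) := fun hmem =>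
    h0 (((genericPoint_spec X).specializes trivial).mem_closed (H10Coh.isClosed_support _ hK.2) hmem)
  haveI : Subsingleton ((kernel φ).presheaf.stalk (genericPoint X)) :=
    ModuleCat.isZero_iff_subsingleton.1 ((H25Euler.notMem_support_iff _ _).1 hη)
  refine H11Tilde.mono_of_injective _ fun W t ht y hy => ⟨W, le_rfl, hy, ?_⟩
  refine (H10Coh.mres_self _ _ t).trans ?_
  have hW : genericPoint X ∈ W := H29Ref.genericPoint_mem hy
  refine H29Ref.germ_generic_injective A hAc.1 hAt hW (Eq.trans ?_ (map_zero _).symm)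
  have h1 : stalkLin φ (genericPoint X) (A.presheaf.germ W (genericPoint X) hW t) = 0 := by
    rw [H06Mod.stalkLin_germ, show φ.app W t = 0 from ht, map_zero]
  obtain ⟨u, hu⟩ := (ShortComplex.moduleCat_exact_iff _).1
    ((ShortComplex.exact_kernel φ).map (DerSch.stalkFunctor X (genericPoint X))) _ h1
  replace hu : stalkLin (kernel.ι φ) (genericPoint X) u = A.presheaf.germ W (genericPoint X) hW t := hu
  rw [← hu, show u = 0 from @Subsingleton.elim _ this _ _]
  exact map_zero _

end Groth.Agent.H10Coh.GaetaGen
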