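import Groth.Agent.H10Coh.GaetaGen.Generated
import Groth.Agent.H22Alg.ESZConn
import Groth.Agent.H29Ref.Rational
import Groth.Agent.S10829
import Groth.Prelude.Def_ShStab

/-! # General Gaeta maps with torsion-free cokernel -/

set_option autoImplicit false
set_option backward.isDefEq.respectTransparency.types false
set_option linter.style.haveILetI false
set_option linter.unusedSectionVars false

universe u

open CategoryTheory CategoryTheory.Limits AlgebraicGeometry Opposite
open Groth.Agent.H06Mod (stalkLin)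
attribute [local instance] Abelian.hasFiniteBiproducts

noncomputable section

namespace Groth.Agent.H10Coh.GaetaGen

open H22Alg H22Alg.CMField H10Coh.Gaeta

/-- A quasi-coherent module with torsion-free stalk at a point embeds it in the generic stalk. -/
theorem sp_injective_at {X : Scheme.{u}} [IsIntegral X] (M : X.Modules) (hM : Coh.IsQCoh M) (x : X)
    [Module.IsTorsionFree (X.presheaf.stalk x) (M.presheaf.stalk x)] : Function.Injective (H29Ref.sp M x) := by
  rw [injective_iff_map_eq_zero]
  intro v hv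
  obtain ⟨W, hW, hxW, -⟩ := exists_isAffineOpen_mem_and_subset (X := X) (x := x) (U := ⊤) trivial
  obtain ⟨t, w, hw⟩ := H29Blow.exists_germ_eq_smul M hM hW ⟨x, hxW⟩ v
  have hη : M.presheaf.germ W (genericPoint X) (H29Ref.genericPoint_mem hxW) t = 0 := by
    rw [← H29Ref.sp_germ M x hxW, hw, H29Ref.sp_smul, hv, smul_zero]
  obtain ⟨c, hc, hct⟩ :=
    H29Blow.exists_smul_eq_zero_of_germ M hM hW ⟨_, H29Ref.genericPoint_mem hxW⟩ t hη
  have hc0 : c ≠ 0 := fun h => hc (h ▸ zero_mem _)
  have h1 : (X.presheaf.germ W x hxW c * (w : X.presheaf.stalk x)) • v = 0 := by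
    rw [mul_smul, ← hw, ← Mero.germ_smul, hct, map_zero]
  exact (smul_eq_zero.mp h1).resolve_left (mul_ne_zero
    ((map_ne_zero_iff _ (germ_injective_of_isIntegral X _ _)).mpr hc0) w.ne_zero)

/-- A submodule vanishing generically vanishes where the ambient stalk is free. -/
theorem subsingleton_stalk_of_free {X : Scheme.{u}} [IsIntegral X] {G C : X.Modules} (hC : Coh.IsQCoh C)
    (ι : G ⟶ C) [Mono ι] (hη : Subsingleton (G.presheaf.stalk (genericPoint X))) {x : X}
    (h : Module.Free (X.presheaf.stalk x) (C.presheaf.stalk x)) : Subsingleton (G.presheaf.stalk x) := by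
  haveI := h
  refine subsingleton_of_forall_eq 0 fun v => H29Omega.stalkLin_injective_of_mono ι x (sp_injective_at C hC x ?_)
  rw [map_zero, map_zero]
  refine (H29Ref.sp_stalkMap ι x v).trans ?_
  rw [@Subsingleton.elim _ hη (H29Ref.sp G x v) 0]
  exact map_zero _

variable (k : Type u) [Field k]

local notation "U" => Coh.structureModule (P2 k)

/-- A module supported where a coordinate is invertible is isomorphic to its twist. -/
theorem nonempty_iso_twist {G : (P2 k).Modules}
    (hG : ∀ x, ¬ Gen k 2 x → Subsingleton (G.presheaf.stalk x)) :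
    Nonempty (G ≅ (Gaeta.G k 1).obj G) := by
  let f := SectionCut.mul (H11Tilde.homOfGlobal (O k 1) (CMField.coords k 2 2)) G
  have hf : IsIso f := H29Omega.isIso_of_bijective_stalkLin f fun x => by
    by_cases hx : Gen k 2 x
    · haveI := SectionCut.isIso_stalk_mul (H11Tilde.homOfGlobal (O k 1) (CMField.coords k 2 2)) G
        (show x ∈ CohB1.genLocus (O k 1) _ by rw [H11Ample.genLocus_eq_gen, H11Ample.val_homOfGlobal]; exact hx)
      exact ConcreteCategory.bijective_of_isIso ((DerSch.stalkFunctor (P2 k) x).map f)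
    · haveI := hG x hx
      haveI := (ESZConn.subsingleton_tensor_stalk_iff ((CMField.setup k 2).fam.inv 1) G x).2 this
      exact ⟨fun p q _ => Subsingleton.elim p q, fun w => ⟨0, Subsingleton.elim _ _⟩⟩
  exact ⟨@asIso _ _ _ _ f hf⟩

theorem hom_eq_zero_down {G : (P2 k).Modules}
    (hG : ∀ x, ¬ Gen k 2 x → Subsingleton (G.presheaf.stalk x)) (h : ∀ g : O k 1 ⟶ G, g = 0) :
    ∀ d : ℤ, d ≤ 1 → ∀ g : O k d ⟶ G, g = 0 := by
  obtain ⟨θ⟩ := nonempty_iso_twist k hG
  refine Int.leInductionDown (motive := fun d _ => ∀ g : O k d ⟶ G, g = 0) h fun d _ ih g => ?_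
  obtain ⟨u⟩ := (CMField.setup k 2).fam.add (d - 1) 1
  apply (Gaeta.G k 1).map_injective
  rw [Functor.map_zero, ← cancel_mono θ.inv, Limits.zero_comp]
  refine (cancel_epi (u ≪≫ eqToIso (congrArg (O k) (sub_add_cancel d 1))).inv).1 ?_
  exact (ih _).trans Limits.comp_zero.symm

theorem isZero_of_support {G : (P2 k).Modules} (hGc : Coh.IsCoh G)
    (hG : ∀ x, ¬ Gen k 2 x → Subsingleton (G.presheaf.stalk x)) (h : ∀ g : O k 1 ⟶ G, g = 0) : IsZero G := by
  haveI := CMHyper.noetherian k 2
  obtain ⟨b, hb⟩ := CMHyper.exists_van hGc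
  let t := max (-1) (b + 2)
  have hreg : Reg (fun d => O k d) G t := fun i hi => by
    by_cases h2 : i ≤ 2
    · exact hb _ (by omega) i hi
    · exact van_high k 2 (by omega) (H11Ample.isCoh_tensor hGc ((setup k 2).fam.inv _)).1
  obtain ⟨n, φ, hφ, -⟩ := CMStep.exists_step hGc hreg
  have h0 : φ = 0 := Sigma.hom_ext _ _ fun i => by
    rw [Limits.comp_zero]
    exact hom_eq_zero_down k hG h (-t) (by omega) _
  haveI := hφ
  exact IsZero.of_epi_eq_zero φ h0

/-- Sections of the cokernel twisted by `-1`. -/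
theorem hom_cokernel_eq_zero {a b c : ℕ} (φ : src k a ⟶ mid (k := k) b c) [Mono φ] (g : O k 1 ⟶ cokernel φ) :
    g = 0 := by
  have hS : (ShortComplex.mk φ (cokernel.π φ) (cokernel.condition φ)).ShortExact :=
    { exact := ShortComplex.exact_cokernel φ }
  exact hom_eq_zero (van_iff.1 (van0_X₃ hS (-1) (van_mid (-1) (by omega) (by omega) (by omega))
    (van_sigma (-2) (-1) (by omega) (by omega)))) g

theorem mM_mem_line {a : ℕ} {x : P2 k} (h2 : ¬ Gen k 2 x) (v : _) :
    stalkLin (lineMap k a) x v ∈ mM (tgt k a) x := diag_mem k h2 v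

/-- For `α₂ + α₃ = α₁ + 1` the general map is injective with torsion-free cokernel. -/
theorem torsionFree (a b c : ℕ) (hr : b + c = a + 1) :
    ∃ (m : ℕ) (e : (src k a ⟶ mid (k := k) b c) ≃ₗ[k] (Fin m → k)) (p : MvPolynomial (Fin m) k), p ≠ 0 ∧
      ∀ φ : src k a ⟶ mid (k := k) b c, MvPolynomial.eval (e φ) p ≠ 0 →
        Mono φ ∧ Coh.IsCoh (cokernel φ) ∧ ¬ IsZero (cokernel φ) ∧ ShStab.IsPure (P2 k) (cokernel φ) 2 := by
  haveI := CMHyper.noetherian k 2
  haveI := integral k
  obtain ⟨m, ⟨e⟩⟩ := exists_coord k a b c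
  obtain ⟨φ₀, hφ₀⟩ := exists_witness k a b c
  obtain ⟨p, hp, hp'⟩ := exists_poly_fam k e (W := ∐ fun _ : Fin a => O k 1)
    (H16Derived.KFlat.Stalk.isCoh_of_isFinLocFree (vb_sum k a 1)).1 (lineMap k a) (φ₀ := φ₀) fun x => by
      by_cases h2 : Gen k 2 x
      · exact Or.inr (surjective_diag k h2)
      obtain ⟨s, hs, hlt⟩ := exists_least x
      refine Or.inl (hφ₀ x s ?_ hs hlt)
      have hne : s ≠ 2 := fun he => h2 (he ▸ hs)
      omega
  refine ⟨m, e, p, hp, fun φ hφ => ?_⟩
  have hsplit : ∀ x, ¬ Gen k 2 x → SplitAt φ x := fun x hx =>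
    splitAt_of_epi_fam k _ (hp' φ hφ) fun v => mM_mem_line k hx v
  obtain ⟨x₀, -, hx₀⟩ := exists_point k
  haveI : Mono φ := mono_of_injective_at (vb_sum k a (-2)) (coh_mid k b c).1 φ (hsplit x₀ hx₀).injective
  have hC := coh_cokernel k φ
  refine ⟨inferInstance, hC, fun h0 => ?_, fun G ι hι hGc hG0 => ?_⟩
  · have h1 := genRank_cokernel k φ
    haveI : Subsingleton ((DerSch.stalkFunctor (P2 k) (genericPoint (P2 k))).obj (cokernel φ)) :=
      ModuleCat.isZero_iff_subsingleton.1 (Functor.map_isZero _ h0)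
    rw [H25Euler.genRank, Module.finrank_zero_of_subsingleton] at h1
    omega
  · haveI := hι
    have hη : genericPoint (P2 k) ∈ CohB1.support G := by
      by_contra hη
      have hη' : Subsingleton (G.presheaf.stalk (genericPoint (P2 k))) :=
        ModuleCat.isZero_iff_subsingleton.1 ((H25Euler.notMem_support_iff _ _).1 hη)
      refine hG0 (isZero_of_support k hGc (fun x hx => subsingleton_stalk_of_free hC.1 ι hη'
        (free_stalk_cokernel (vb_mid k b c) (hsplit x hx))) fun g => ?_)
      rw [← cancel_mono ι, Limits.zero_comp]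
      exact hom_cokernel_eq_zero k φ _
    have huniv : CohB1.support G = Set.univ :=
      Set.univ_subset_iff.1 ((genericPoint_spec (P2 k)).symm.trans_subset
        ((H10Coh.isClosed_support G hGc.2).closure_subset_iff.2 (Set.singleton_subset_iff.2 hη)))
    rw [huniv, (Homeomorph.Set.univ (P2 k)).isHomeomorph.topologicalKrullDim_eq]
    exact S10829.result k 2

end Groth.Agent.H10Coh.GaetaGen
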