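import Groth.Agent.H10Coh.GaetaGen.Banded
import Groth.Agent.H10Coh.GaetaGen.Poly
import Groth.Agent.H10Coh.GaetaGen.Split
import Groth.Agent.H19Grp.ProjPoint
import Groth.Agent.H11Ample.ToPn

/-! # Witnesses for general Gaeta maps -/

set_option autoImplicit false
set_option backward.isDefEq.respectTransparency.types false
set_option linter.style.haveILetI false
set_option linter.unusedSectionVars false

universe u

open CategoryTheory CategoryTheory.Limits AlgebraicGeometry Opposite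
open Groth.Agent.H06Mod (stalkLin)
attribute [local instance] Abelian.hasFiniteBiproducts

noncomputable section

namespace Groth.Agent.H10Coh.GaetaGen

open H22Alg H10Coh.Gaeta

variable (k : Type u) [Field k]

local notation "U" => Coh.structureModule (P2 k)

/-- The source. -/
abbrev src (a : ℕ) : (P2 k).Modules := ∐ fun _ : Fin a => O k (-2)

/-- The dual of the source. -/
abbrev tgt (a : ℕ) : (P2 k).Modules := ∐ fun _ : Fin a => O k 2

/-- The dual of the middle term. -/
abbrev Zd (b c : ℕ) : (P2 k).Modules := (∐ fun _ : Fin b => O k 1) ⊞ (∐ fun _ : Fin c => O k 0)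

theorem noeth : IsLocallyNoetherian (P2 k) := by
  haveI := CMHyper.noetherian k 2
  infer_instance

theorem vb_O (d : ℤ) : FlatMod.IsFinLocFree (O k d) :=
  H28Pinch.isFinLocFree_of_isInvertible ((CMField.setup k 2).fam.inv d)

theorem vb_unit : FlatMod.IsFinLocFree U :=
  H28Pinch.isFinLocFree_of_isInvertible (H11Proj.isInvertible_structureModule)

theorem vb_sum (a : ℕ) (d : ℤ) : FlatMod.IsFinLocFree (∐ fun _ : Fin a => O k d) :=
  H16Derived.KFlat.Stalk.isFinLocFree_sigma _ fun _ => vb_O k d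

theorem vb_mid (b c : ℕ) : FlatMod.IsFinLocFree (mid (k := k) b c) :=
  H16Derived.KFlat.Stalk.isFinLocFree_biprod (vb_sum k b (-1))
    (H16Derived.KFlat.Stalk.isFinLocFree_sigma _ fun _ => vb_unit k)

theorem vb_Zd (b c : ℕ) : FlatMod.IsFinLocFree (Zd k b c) :=
  H16Derived.KFlat.Stalk.isFinLocFree_biprod (vb_sum k b 1) (vb_sum k c 0)

theorem nonempty_dual_O (d : ℤ) : Nonempty (RefHull.dual (O k d) ≅ O k (-d)) := by
  obtain ⟨a⟩ := H25AbCube.isInverseOf_dual ((CMField.setup k 2).fam.inv d)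
  obtain ⟨b⟩ := nonempty_pair k d
  exact ⟨(H10Coh.Tw.rightUnitIso _).symm ≪≫ PicGrp.tensorModIso (Iso.refl _) b.symm ≪≫
    (H10Coh.Tw.assoc _ _ _).symm ≪≫ PicGrp.tensorModIso a (Iso.refl _) ≪≫ H10Coh.Tw.leftUnitIso _⟩

/-- The dual of the source. -/
def eA (a : ℕ) : RefHull.dual (src k a) ≅ tgt k a :=
  H23KS.dualSigma (fun _ : Fin a => O k (-2)) ≪≫
    Sigma.mapIso fun _ => (nonempty_dual_O k (-2)).some ≪≫ eqToIso (congrArg (O k) (neg_neg 2))

/-- The dual of the middle term. -/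
def eB (b c : ℕ) : RefHull.dual (mid (k := k) b c) ≅ Zd k b c :=
  H23KS.dualBiprod _ _ ≪≫ biprod.mapIso
    (H23KS.dualSigma (fun _ : Fin b => O k (-1)) ≪≫
      Sigma.mapIso fun _ => (nonempty_dual_O k (-1)).some ≪≫ eqToIso (congrArg (O k) (neg_neg 1)))
    (H23KS.dualSigma (fun _ : Fin c => U) ≪≫
      Sigma.mapIso fun _ => (RefFun.dualIso ((CMField.setup k 2).fam.zero.some).symm) ≪≫
        (nonempty_dual_O k 0).some ≪≫ eqToIso (congrArg (O k) neg_zero))

theorem dualMap_smulMod {F : (P2 k).Modules} (c : k) :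
    RefFun.dualMap (Formal.smulMod k F c) = Formal.smulMod k (RefHull.dual F) c := by
  apply Scheme.Modules.hom_ext
  intro W
  ext g
  refine Subtype.ext (funext fun x => LinearMap.ext fun v => ?_)
  obtain ⟨V, hx, m, rfl⟩ := TopCat.Presheaf.exists_germ_eq F.presheaf v
  show (g.1 x) (RefHull.stalkMapₗ (Formal.smulMod k F c) x.1 _) =
    (show Γ(RefHull.dual F, W) from (Formal.smulMod k (RefHull.dual F) c).app W g).1 x _
  rw [RefHull.stalkMapₗ_germ, Formal.smulMod, Formal.smulMod]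
  rw [KLin.smulModΓ_app_apply, KLin.smulModΓ_app_apply, H06Mod.germ_smul, map_smul,
    TopCat.Presheaf.germ_res_apply]
  exact congrArg (· • _) (TopCat.Presheaf.germ_res_apply _ _ _ _ _).symm

/-- The transpose, linearly. -/
def D (A B : (P2 k).Modules) : (A ⟶ B) →ₗ[k] (RefHull.dual B ⟶ RefHull.dual A) where
  toFun φ := RefFun.dualMap φ
  map_add' := H23KS.dualMap_add
  map_smul' c φ := by
    show RefFun.dualMap (Formal.smulMod k A c ≫ φ) = c • RefFun.dualMap φ
    rw [RefFun.dualMap_comp, dualMap_smulMod, ← KLin.smul_id, Linear.comp_smul, Category.comp_id]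

/-- A row of a banded map. -/
def row {T R : (P2 k).Modules} (a : ℕ) (μ : Fin 3 → (R ⟶ T)) (i : ℕ) : R ⟶ ∐ fun _ : Fin a => T :=
  ∑ t : Fin 3, if h : t.1 ≤ i ∧ i - t.1 < a then μ t ≫ Sigma.ι (fun _ : Fin a => T) ⟨i - t.1, h.2⟩ else 0

theorem comp_row {T R R' : (P2 k).Modules} (f : R' ⟶ R) (a : ℕ) (μ : Fin 3 → (R ⟶ T)) (i : ℕ) :
    f ≫ row k a μ i = row k a (fun t => f ≫ μ t) i := by
  rw [row, row, Preadditive.comp_sum]
  refine Finset.sum_congr rfl fun t _ => ?_
  split_ifs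
  · rw [Category.assoc]
  · rw [Limits.comp_zero]

/-- `O(1) → O(2)`. -/
def m1 (t : Fin 3) : O k 1 ⟶ O k 2 := mu k 1 t ≫ (eqToIso (congrArg (O k) (by norm_num : (1 : ℤ) + 1 = 2))).hom

/-- `O → O(2)`. -/
def m2 (t : Fin 3) : O k 0 ⟶ O k 2 :=
  mu k 0 t ≫ (eqToIso (congrArg (O k) (zero_add (1 : ℤ)))).hom ≫ m1 k t

/-- The locus where the `t`-th coordinate is invertible. -/
abbrev Gen (t : Fin 3) (x : P2 k) : Prop := x ∈ H11Ample.gen (O k 1) (CMField.coords k 2 t)

theorem good_m1 (t : Fin 3) : Good (m1 k t) (Gen k t) := (good_mu 1 t).comp_iso _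

theorem good_m2 (t : Fin 3) : Good (m2 k t) (Gen k t) :=
  (good_mu 0 t).comp ((good_m1 k t).iso_comp _)

/-- The banded map between the duals. -/
def Ψ (a b c : ℕ) : Zd k b c ⟶ tgt k a :=
  biprod.desc (Sigma.desc fun i : Fin b => row k a (m1 k) i.1)
    (Sigma.desc fun i : Fin c => row k a (m2 k) (b + i.1))

theorem finite_stalk_sum (a : ℕ) (d : ℤ) (x : P2 k) :
    Module.Finite ((P2 k).presheaf.stalk x) ((∐ fun _ : Fin a => O k d).presheaf.stalk x) := by
  haveI := noeth k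
  exact H29Ref.finite_stalk _ (H16Derived.KFlat.Stalk.isCoh_of_isFinLocFree (vb_sum k a d)).2 x

theorem surjective_Ψ {a b c : ℕ} {x : P2 k} {s : Fin 3} (hlen : a + s.1 ≤ b + c) (hs : Gen k s x)
    (hlt : ∀ t < s, ¬ Gen k t x) : Function.Surjective (stalkLin (Ψ k a b c) x) := by
  classical
  let R : Fin (b + c) → (P2 k).Modules := fun i => O k (if i.1 < b then 1 else 0)
  let μ : (i : Fin (b + c)) → Fin 3 → (R i ⟶ O k 2) := fun i t =>
    if h : i.1 < b then (eqToIso (show R i = O k 1 by simp [R, h])).hom ≫ m1 k t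
    else (eqToIso (show R i = O k 0 by simp [R, h])).hom ≫ m2 k t
  let ι' : (i : Fin (b + c)) → (R i ⟶ Zd k b c) := fun i =>
    if h : i.1 < b then (eqToIso (show R i = O k 1 by simp [R, h])).hom ≫
      Sigma.ι (fun _ : Fin b => O k 1) ⟨i.1, h⟩ ≫ biprod.inl
    else (eqToIso (show R i = O k 0 by simp [R, h])).hom ≫
      Sigma.ι (fun _ : Fin c => O k 0) ⟨i.1 - b, by omega⟩ ≫ biprod.inr
  have hg : ∀ i t, Good (μ i t) (Gen k t) := fun i t => by
    simp only [μ]
    split_ifs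
    · exact (good_m1 k t).iso_comp _
    · exact (good_m2 k t).iso_comp _
  refine surjective_banded μ ι' (Ψ k a b c) (fun i => ?_) x (finite_stalk_sum k a 2 x) s hlen
    (fun i => ((hg i s) x).1 hs) (fun i t ht => ((hg i t) x).2 (hlt t ht))
  show ι' i ≫ _ = row k a (μ i) i.1
  by_cases h : i.1 < b
  · simp only [μ, ι', dif_pos h, Ψ, Category.assoc, biprod.inl_desc, Sigma.ι_desc, comp_row]
  · simp only [μ, ι', dif_neg h, Ψ, Category.assoc, biprod.inr_desc, Sigma.ι_desc, comp_row]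
    rw [Nat.add_sub_cancel' (not_lt.1 h)]

theorem exists_witness (a b c : ℕ) :
    ∃ φ : src k a ⟶ mid (k := k) b c, ∀ (x : P2 k) (s : Fin 3), a + s.1 ≤ b + c → Gen k s x →
      (∀ t < s, ¬ Gen k t x) → Function.Surjective (stalkLin (D k _ _ φ) x) := by
  let χ : RefHull.dual (mid (k := k) b c) ⟶ RefHull.dual (src k a) := (eB k b c).hom ≫ Ψ k a b c ≫ (eA k a).inv
  haveI := H10Inj.SheafExt.isIso_bidualMap (vb_mid k b c)
  haveI := H10Inj.SheafExt.isIso_bidualMap (vb_sum k a (-2))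
  let uA : src k a ≅ RefHull.ddual (src k a) := asIso (RefHull.bidualMap (src k a))
  let uB : RefHull.ddual (mid (k := k) b c) ≅ mid (k := k) b c := (asIso (RefHull.bidualMap (mid (k := k) b c))).symm
  refine ⟨uA.hom ≫ RefFun.dualMap χ ≫ uB.hom, fun x s hlen hs hlt => ?_⟩
  have hdA := H10Inj.SheafExt.isFinLocFree_dual (vb_sum k a (-2))
  have hdB := H10Inj.SheafExt.isFinLocFree_dual (vb_mid k b c)
  have hχ : Function.Surjective (stalkLin χ x) := fun w => by
    obtain ⟨z, hz⟩ := surjective_Ψ k hlen hs hlt (stalkLin (eA k a).hom x w)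
    refine ⟨stalkLin (eB k b c).inv x z, ?_⟩
    simp only [χ, H29Omega.stalkLin_comp]
    rw [← H29Omega.stalkLin_comp (eB k b c).inv, Iso.inv_hom_id, H02CA.Tango.stalkLin_id', hz,
      ← H29Omega.stalkLin_comp, Iso.hom_inv_id, H02CA.Tango.stalkLin_id']
  exact surjective_dual_of_splitAt (H3Cyc.Filt.isFP _ (vb_sum k a (-2))) (H3Cyc.Filt.isFP _ (vb_mid k b c))
    (((splitAt_dualMap (H3Cyc.Filt.isFP _ hdB) hdA hχ).comp_iso uB).iso_comp uA)

/-- Diagonal multiplication by a coordinate. -/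
def diag (a : ℕ) (t : Fin 3) : (∐ fun _ : Fin a => O k 1) ⟶ tgt k a :=
  Sigma.desc fun j => m1 k t ≫ Sigma.ι (fun _ : Fin a => O k 2) j

theorem surjective_diag {a : ℕ} {t : Fin 3} {x : P2 k} (h : Gen k t x) :
    Function.Surjective (stalkLin (diag k a t) x) := by
  intro w
  choose y hy using fun l : Fin a =>
    ((good_m1 k t) x).1 h (stalkLin (H02CA.Euler.proj (fun _ : Fin a => O k 2) l) x w)
  refine ⟨∑ l, stalkLin (Sigma.ι (fun _ : Fin a => O k 1) l) x (y l), ?_⟩
  rw [map_sum]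
  conv_rhs => rw [H02CA.Tango.eq_sum_proj (O k 2) x w]
  refine Finset.sum_congr rfl fun l _ => ?_
  rw [← H29Omega.stalkLin_comp, diag, Sigma.ι_desc, H29Omega.stalkLin_comp, hy]

theorem diag_mem {a : ℕ} {t : Fin 3} {x : P2 k} (h : ¬ Gen k t x) (v : _) :
    stalkLin (diag k a t) x v ∈ mM (tgt k a) x := by
  rw [H02CA.Tango.eq_sum_proj (O k 1) x v, map_sum]
  refine Submodule.sum_mem _ fun l _ => ?_
  rw [← H29Omega.stalkLin_comp, diag, Sigma.ι_desc, H29Omega.stalkLin_comp]
  exact stalkLin_mem_mM _ x (((good_m1 k t) x).2 h _)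

/-- The equations of the coordinate line. -/
abbrev lineMap (a : ℕ) : (∐ fun _ : Fin a => O k 1) ⟶ tgt k a := diag k a 2

/-- The equations of the coordinate point. -/
abbrev pointMap (a : ℕ) : (∐ fun _ : Fin a => O k 1) ⊞ (∐ fun _ : Fin a => O k 1) ⟶ tgt k a :=
  biprod.desc (diag k a 1) (diag k a 2)

/-- The linear family whose surjectivity detects splitting along a locus. -/
def fam {a b c : ℕ} {W : (P2 k).Modules} (d : W ⟶ tgt k a) :
    (src k a ⟶ mid (k := k) b c) →ₗ[k] (RefHull.dual (mid (k := k) b c) ⟶ cokernel d) :=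
  (CategoryTheory.Linear.rightComp k (RefHull.dual (mid (k := k) b c)) ((eA k a).hom ≫ cokernel.π d)) ∘ₗ D k _ _

theorem fam_apply {a b c : ℕ} {W : (P2 k).Modules} (d : W ⟶ tgt k a) (φ : src k a ⟶ mid (k := k) b c) :
    fam k d φ = RefFun.dualMap φ ≫ (eA k a).hom ≫ cokernel.π d := rfl

theorem stalk_π_zero {W T : (P2 k).Modules} (d : W ⟶ T) {x : P2 k} (h : Function.Surjective (stalkLin d x))
    (w : T.presheaf.stalk x) : stalkLin (cokernel.π d) x w = 0 := by
  obtain ⟨v, rfl⟩ := h w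
  rw [← H29Omega.stalkLin_comp, cokernel.condition, H02CA.Tango.stalkLin_zero]
  rfl

theorem epi_fam_witness {a b c : ℕ} {W : (P2 k).Modules} (d : W ⟶ tgt k a) {φ : src k a ⟶ mid (k := k) b c}
    (hφ : ∀ x, Function.Surjective (stalkLin (D k _ _ φ) x) ∨ Function.Surjective (stalkLin d x)) :
    Epi (fam k d φ) := H29Omega.epi_of_surjective_stalkLin _ fun x w => by
  obtain ⟨w', rfl⟩ := H06Mod.surjective_stalk_of_epi (cokernel.π d) x w
  rcases hφ x with h | h
  · obtain ⟨v, hv⟩ := h (stalkLin (eA k a).inv x w')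
    refine ⟨v, ?_⟩
    rw [fam_apply, H29Omega.stalkLin_comp, H29Omega.stalkLin_comp]
    show stalkLin (cokernel.π d) x (stalkLin (eA k a).hom x (stalkLin (D k _ _ φ) x v)) = _
    rw [hv, ← H29Omega.stalkLin_comp (eA k a).inv, Iso.inv_hom_id, H02CA.Tango.stalkLin_id']
    rfl
  · exact ⟨0, (map_zero _).trans (stalk_π_zero k d h w').symm⟩

theorem splitAt_of_epi_fam {a b c : ℕ} {W : (P2 k).Modules} (d : W ⟶ tgt k a) {φ : src k a ⟶ mid (k := k) b c}
    (h : Epi (fam k d φ)) {x : P2 k} (hd : ∀ v, stalkLin d x v ∈ mM (tgt k a) x) : SplitAt φ x := by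
  haveI := h
  refine splitAt_of_surjective_dual (vb_sum k a (-2)) (H3Cyc.Filt.isFP _ (vb_mid k b c)) ?_
  let g := RefFun.dualMap φ ≫ (eA k a).hom
  have htop : (⊤ : Submodule ((P2 k).presheaf.stalk x) ((tgt k a).presheaf.stalk x)) ≤
      LinearMap.range (stalkLin g x) ⊔ mM (tgt k a) x := fun w _ => by
    obtain ⟨v, hv⟩ := H06Mod.surjective_stalk_of_epi (fam k d φ) x (stalkLin (cokernel.π d) x w)
    have h0 : stalkLin (cokernel.π d) x (w - stalkLin g x v) = 0 := by
      rw [map_sub, sub_eq_zero, ← H29Omega.stalkLin_comp]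
      simp only [g, Category.assoc]
      exact hv.symm
    obtain ⟨u, hu⟩ := (ShortComplex.moduleCat_exact_iff _).1
      ((ShortComplex.exact_cokernel d).map (DerSch.stalkFunctor (P2 k) x)) _ h0
    replace hu : stalkLin d x u = w - stalkLin g x v := hu
    rw [show w = stalkLin g x v + stalkLin d x u by rw [hu]; exact (add_sub_cancel _ _).symm]
    exact Submodule.add_mem_sup (LinearMap.mem_range_self _ _) (hd u)
  haveI := finite_stalk_sum k a 2 x
  have hg : Function.Surjective (stalkLin g x) := LinearMap.range_eq_top.1 (top_le_iff.1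
    (Submodule.le_of_le_smul_of_le_jacobson_bot Module.Finite.fg_top (IsLocalRing.maximalIdeal_le_jacobson ⊥) htop))
  intro w
  obtain ⟨v, hv⟩ := hg (stalkLin (eA k a).hom x w)
  refine ⟨v, ?_⟩
  have hinj : Function.Injective (stalkLin (eA k a).hom x) := fun p q hpq => by
    have := congrArg (stalkLin (eA k a).inv x) hpq
    rwa [← H29Omega.stalkLin_comp, ← H29Omega.stalkLin_comp, Iso.hom_inv_id, H02CA.Tango.stalkLin_id',
      H02CA.Tango.stalkLin_id'] at this
  exact hinj ((H29Omega.stalkLin_comp _ _ _ _).symm.trans hv)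

/-- The point `(1 : 0 : 0)`. -/
theorem exists_point : ∃ x : P2 k, ¬ Gen k 1 x ∧ ¬ Gen k 2 x := by
  let s : Fin 3 → k := ![1, 0, 0]
  have hs : H19Grp.ProjPoint.IsUnimod (n := 2) s := (Ideal.eq_top_iff_one _).2 (Ideal.subset_span ⟨0, rfl⟩)
  let f := H19Grp.ProjPoint.pt (B := k) k s hs
  refine ⟨f.base default, ?_, ?_⟩
  all_goals
    intro h
    replace h := (H11Ample.gen_coord (R := k) (n := 2) _).le
      (show f.base default ∈ H11Ample.gen (O k 1) (ProjUP.coord 2 k _) by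
        simpa [Gen, CMField.coords] using h)
    have h' := (H19Grp.ProjPoint.preimage_basicOpen s hs _).le (show default ∈ f ⁻¹ᵁ _ from h)
    simp [s] at h'

end Groth.Agent.H10Coh.GaetaGen
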